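import Mathlib

/-!
Counting elements by their orders: Frobenius's theorem and consequences.
-/

universe u

namespace Cfsg.Agent.Lib.OrderCount

/-- `φ m` divides the number of elements of order `m`. -/
theorem totient_dvd_card_orderOf {G : Type u} [Group G] [Finite G] (m : ℕ) :
    Nat.totient m ∣ Nat.card {g : G // orderOf g = m} := by
  classical
  cases nonempty_fintype G
  rw [Nat.card_eq_fintype_card, Fintype.card_subtype]
  set s := Finset.univ.filter fun g : G => orderOf g = m with hs
  rw [Finset.card_eq_sum_card_image (fun g : G => Subgroup.zpowers g) s]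
  refine Finset.dvd_sum fun K hK => ?_
  obtain ⟨g, hg, rfl⟩ := Finset.mem_image.mp hK
  have hgm : orderOf g = m := (Finset.mem_filter.mp hg).2
  have e : {x // x ∈ s.filter fun x => Subgroup.zpowers x = Subgroup.zpowers g} ≃
      {a : Subgroup.zpowers g // orderOf a = m} :=
    { toFun := fun x => ⟨⟨x.1, (Finset.mem_filter.mp x.2).2.le (Subgroup.mem_zpowers x.1)⟩, by
        rw [Subgroup.orderOf_mk]; exact (Finset.mem_filter.mp (Finset.mem_filter.mp x.2).1).2⟩
      invFun := fun a => ⟨a.1.1, by
        have h1 : orderOf (a.1 : G) = m := by rw [Subgroup.orderOf_coe]; exact a.2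
        refine Finset.mem_filter.mpr ⟨Finset.mem_filter.mpr ⟨Finset.mem_univ _, h1⟩, ?_⟩
        exact Subgroup.eq_of_le_of_card_ge (Subgroup.zpowers_le.mpr a.1.2)
          (by rw [Nat.card_zpowers, Nat.card_zpowers, h1, hgm])⟩
      left_inv := fun x => rfl
      right_inv := fun a => rfl }
  rw [← Fintype.card_coe, Fintype.card_congr e, Fintype.card_subtype,
    IsCyclic.card_orderOf_eq_totient (by rw [Fintype.card_zpowers, hgm])]

/-- Frobenius's theorem for one group, given the theorem for smaller groups. -/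
theorem dvd_card_pow_eq_one_of_smaller {G : Type u} [Group G] [Finite G]
    (IH : ∀ (H : Type u) [Group H] [Finite H], Nat.card H < Nat.card G → ∀ k : ℕ,
      Nat.gcd k (Nat.card H) ∣ Nat.card {h : H // h ^ k = 1}) :
    ∀ n : ℕ, n ∣ Nat.card G → n ∣ Nat.card {g : G // g ^ n = 1} := by
  classical
  cases nonempty_fintype G
  intro n
  induction hd : Nat.card G / n using Nat.strong_induction_on generalizing n with
  | _ d ihd =>
  intro hn
  have hn0 : 0 < n := Nat.pos_of_dvd_of_pos hn Nat.card_pos
  obtain ⟨d', hd'⟩ := hn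
  have hdd' : d = d' := by rw [← hd, hd', Nat.mul_div_cancel_left _ hn0]
  subst hdd'
  rcases eq_or_ne d 1 with rfl | hd1
  · rw [mul_one] at hd'
    have : Nat.card {g : G // g ^ n = 1} = n := by
      rw [← hd']
      exact Nat.card_congr (Equiv.subtypeUnivEquiv fun g => pow_card_eq_one')
    rw [this]
  obtain ⟨p, hp, ⟨d₁, rfl⟩⟩ := Nat.exists_prime_and_dvd hd1
  haveI : Fact p.Prime := ⟨hp⟩
  have hnp : n * p ∣ Nat.card G := ⟨d₁, by rw [hd', mul_assoc]⟩
  have hd₁ : 0 < d₁ := by
    rcases Nat.eq_zero_or_pos d₁ with rfl | h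
    · simp [hd'] at *
    · exact h
  have h1 : n * p ∣ Nat.card {g : G // g ^ (n * p) = 1} :=
    ihd d₁ (lt_mul_left hd₁ hp.one_lt) (n * p)
      (by rw [hd', ← mul_assoc, Nat.mul_div_cancel_left _ (Nat.mul_pos hn0 hp.pos)]) hnp
  -- split the solutions of `g ^ (n p) = 1`
  have hsplit : Nat.card {g : G // g ^ (n * p) = 1} =
      Nat.card {g : G // g ^ n = 1} + Nat.card {g : G // g ^ (n * p) = 1 ∧ g ^ n ≠ 1} := by
    simp only [Nat.card_eq_fintype_card, Fintype.card_subtype]
    rw [← Finset.card_union_of_disjoint]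
    · refine congrArg Finset.card ?_
      ext g
      simp only [Finset.mem_union, Finset.mem_filter, Finset.mem_univ, true_and]
      constructor
      · intro h; tauto
      · rintro (h | h)
        · rw [pow_mul, h, one_pow]
        · exact h.1
    · exact Finset.disjoint_filter.mpr fun g _ h h' => h'.2 h
  suffices hS : n ∣ Nat.card {g : G // g ^ (n * p) = 1 ∧ g ^ n ≠ 1} from
    (Nat.dvd_add_left hS).mp (hsplit ▸ (dvd_mul_right n p).trans h1)
  obtain ⟨a, k, hk, rfl⟩ := Nat.exists_eq_pow_mul_and_not_dvd hn0.ne' p hp.ne_one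
  have hcop : Nat.Coprime p k := hp.coprime_iff_not_dvd.mpr hk
  refine (hcop.pow_left a).mul_dvd_of_dvd_of_dvd ?_ ?_
  · -- the `p`-part, by the Euler function
    rw [Nat.card_eq_fintype_card, Fintype.card_subtype]
    rw [Finset.card_eq_sum_card_image (orderOf : G → ℕ)]
    refine Finset.dvd_sum fun m hm => ?_
    obtain ⟨g, hg, rfl⟩ := Finset.mem_image.mp hm
    obtain ⟨hg1, hg2⟩ := (Finset.mem_filter.mp hg).2
    have h2 : p ^ (a + 1) ∣ orderOf g := by
      have ho : orderOf g ∣ p ^ a * k * p := orderOf_dvd_of_pow_eq_one hg1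
      by_contra hcon
      refine hg2 (orderOf_dvd_iff_pow_eq_one.mp ?_)
      obtain ⟨b, k', hk', hbk⟩ := Nat.exists_eq_pow_mul_and_not_dvd (orderOf_pos g).ne' p hp.ne_one
      rw [hbk] at ho hcon ⊢
      have hb : b ≤ a := by
        by_contra hb
        exact hcon ((pow_dvd_pow p (by omega)).trans (dvd_mul_right _ _))
      have hk'k : k' ∣ k := by
        have : k' ∣ p ^ (a + 1) * k := (dvd_mul_left k' _).trans (ho.trans (dvd_of_eq (by ring)))
        exact ((hp.coprime_iff_not_dvd.mpr hk').symm.pow_right _).dvd_of_dvd_mul_left this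
      exact mul_dvd_mul (pow_dvd_pow p hb) hk'k
    have h3 : (Finset.univ.filter fun x : G => x ^ (p ^ a * k * p) = 1 ∧ x ^ (p ^ a * k) ≠ 1).filter
        (fun x => orderOf x = orderOf g) = Finset.univ.filter fun x : G => orderOf x = orderOf g := by
      ext x
      simp only [Finset.mem_filter, Finset.mem_univ, true_and, and_iff_right_iff_imp]
      intro hx
      constructor
      · rw [← orderOf_dvd_iff_pow_eq_one, hx]; exact orderOf_dvd_of_pow_eq_one hg1
      · rw [ne_eq, ← orderOf_dvd_iff_pow_eq_one, hx, orderOf_dvd_iff_pow_eq_one]; exact hg2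
    rw [h3]
    have h4 := totient_dvd_card_orderOf (G := G) (orderOf g)
    rw [Nat.card_eq_fintype_card, Fintype.card_subtype] at h4
    refine ((?_ : p ^ a ∣ Nat.totient (p ^ (a + 1))).trans (Nat.totient_dvd_of_dvd h2)).trans h4
    rw [Nat.totient_prime_pow_succ hp]
    exact dvd_mul_right _ _
  · -- the `p'`-part, by the decomposition into commuting parts
    set Y := {y : G // orderOf y = p ^ (a + 1)}
    have hcop' : Nat.Coprime (p ^ (a + 1)) k := hcop.pow_left _
    obtain ⟨e, he1, he2⟩ := Nat.chineseRemainder hcop' 1 0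
    have hke : k ∣ e := Nat.modEq_zero_iff_dvd.mp he2
    have hnp' : p ^ a * k * p = p ^ (a + 1) * k := by ring
    let E : {g : G // g ^ (p ^ a * k * p) = 1 ∧ g ^ (p ^ a * k) ≠ 1} ≃
        Σ y : Y, {z : G // Commute y.1 z ∧ z ^ k = 1} :=
      { toFun := fun g =>
          have hy : (g.1 ^ e) ^ p ^ (a + 1) = 1 := by
            obtain ⟨c, rfl⟩ := hke
            rw [← pow_mul, show k * c * p ^ (a + 1) = p ^ a * k * p * c by ring, pow_mul, g.2.1,
              one_pow]
          have hz : ((g.1 ^ e)⁻¹ * g.1) ^ k = 1 := by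
            rw [((Commute.refl g.1).pow_left e).inv_left.mul_pow, inv_pow, inv_mul_eq_one, ← pow_mul]
            apply pow_eq_pow_iff_modEq.mpr
            have : e * k ≡ 1 * k [MOD p ^ (a + 1) * k] := he1.mul_right' k
            rw [one_mul] at this
            exact this.of_dvd (hnp' ▸ orderOf_dvd_of_pow_eq_one g.2.1)
          ⟨⟨g.1 ^ e, orderOf_eq_prime_pow (fun h => g.2.2 (by
              calc g.1 ^ (p ^ a * k)
                  = (g.1 ^ e * ((g.1 ^ e)⁻¹ * g.1)) ^ (p ^ a * k) := by rw [mul_inv_cancel_left]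
                _ = 1 := by
                  rw [((Commute.refl (g.1 ^ e)).inv_right.mul_right
                    ((Commute.refl g.1).pow_left e)).mul_pow, pow_mul, h, one_pow, one_mul,
                    pow_mul', hz, one_pow])) hy⟩,
            (g.1 ^ e)⁻¹ * g.1, ((Commute.refl (g.1 ^ e)).inv_right.mul_right
              ((Commute.refl g.1).pow_left e)), hz⟩
        invFun := fun yz => ⟨yz.1.1 * yz.2.1, by
          have h := pow_orderOf_eq_one yz.1.1
          rw [yz.1.2] at h
          rw [yz.2.2.1.mul_pow, hnp', pow_mul, h, one_pow, mul_comm (p ^ (a + 1)) k, pow_mul,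
            yz.2.2.2, one_pow, one_mul], by
          rw [yz.2.2.1.mul_pow, mul_comm, pow_mul yz.2.1, yz.2.2.2, one_pow, mul_one]
          intro h
          have h1 := orderOf_dvd_of_pow_eq_one h
          rw [yz.1.2] at h1
          have h2 := hcop'.dvd_of_dvd_mul_left h1
          exact absurd ((Nat.pow_dvd_pow_iff_le_right hp.one_lt).mp h2) (by omega)⟩
        left_inv := fun g => Subtype.ext (mul_inv_cancel_left _ _)
        right_inv := fun yz => by
          have hye : (yz.1.1 * yz.2.1) ^ e = yz.1.1 := by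
            rw [yz.2.2.1.mul_pow]
            have h1 : yz.2.1 ^ e = 1 := by
              obtain ⟨c, rfl⟩ := hke
              rw [pow_mul, yz.2.2.2, one_pow]
            rw [h1, mul_one]
            conv_rhs => rw [← pow_one yz.1.1]
            exact pow_eq_pow_iff_modEq.mpr (by rw [yz.1.2]; exact he1)
          obtain ⟨⟨y, hy⟩, ⟨z, hz⟩⟩ := yz
          refine Sigma.subtype_ext (Subtype.ext hye) ?_
          show ((y * z) ^ e)⁻¹ * (y * z) = z
          rw [hye, inv_mul_cancel_left] }
    rw [Nat.card_congr E, Nat.card_sigma]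
    set c : G → ℕ := fun y => Nat.card {z : G // Commute y z ∧ z ^ k = 1}
    show k ∣ ∑ y : Y, c y.1
    -- each fibre
    have hfib : ∀ y : Y, Nat.gcd k (Nat.card (Subgroup.centralizer ({y.1} : Set G))) ∣ c y.1 := by
      rintro ⟨y, hy⟩
      set C := Subgroup.centralizer ({y} : Set G)
      set yC : C := ⟨y, Subgroup.mem_centralizer_singleton_iff.mpr rfl⟩
      have hyC : yC ∈ Subgroup.center C := Subgroup.mem_center_iff.mpr fun x =>
        Subtype.ext (Subgroup.mem_centralizer_singleton_iff.mp x.2)
      haveI : (Subgroup.zpowers yC).Normal := ⟨fun x hx g => by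
        rwa [Subgroup.mem_center_iff.mp (Subgroup.zpowers_le.mpr hyC hx) g, mul_inv_cancel_right]⟩
      have hcard : Nat.card (C ⧸ Subgroup.zpowers yC) * p ^ (a + 1) = Nat.card C := by
        rw [Subgroup.card_eq_card_quotient_mul_card_subgroup (Subgroup.zpowers yC), Nat.card_zpowers,
          Subgroup.orderOf_mk, hy]
      have hlt : Nat.card (C ⧸ Subgroup.zpowers yC) < Nat.card G := by
        have h1 : Nat.card C ≤ Nat.card G := Subgroup.card_le_card_group C
        have h2 : 1 < p ^ (a + 1) := Nat.one_lt_pow (by omega) hp.one_lt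
        have h3 : 0 < Nat.card (C ⧸ Subgroup.zpowers yC) := Nat.card_pos
        have := lt_mul_right h3 h2
        omega
      have h := IH (C ⧸ Subgroup.zpowers yC) hlt k
      rw [← hcard, Nat.Coprime.gcd_mul_right_cancel_right _ hcop']
      refine h.trans (dvd_of_eq ?_)
      obtain ⟨e', he1', he2'⟩ := Nat.chineseRemainder hcop' 0 1
      let f : {z : G // Commute y z ∧ z ^ k = 1} → {w : C ⧸ Subgroup.zpowers yC // w ^ k = 1} :=
        fun z => ⟨QuotientGroup.mk' _ ⟨z.1, Subgroup.mem_centralizer_singleton_iff.mpr z.2.1.eq.symm⟩,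
          by rw [← map_pow, show (⟨z.1, _⟩ : C) ^ k = 1 from Subtype.ext z.2.2, map_one]⟩
      refine (Nat.card_congr (Equiv.ofBijective f ⟨?_, ?_⟩)).symm
      · rintro ⟨z, hz⟩ ⟨w, hw⟩ hzw
        have h1 := QuotientGroup.eq.mp (congrArg Subtype.val hzw)
        obtain ⟨j, hj⟩ := h1
        have hj' : y ^ j = z⁻¹ * w := congrArg Subtype.val hj
        have hwz : w = z * y ^ j := by rw [hj']; group
        have h2 : (y ^ j) ^ k = 1 := by
          have := hw.2
          rwa [hwz, ((hz.1.symm.zpow_right j)).mul_pow, hz.2, one_mul] at this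
        have h3 : (y ^ j) ^ p ^ (a + 1) = 1 := by
          rw [← zpow_natCast (y ^ j), zpow_comm, zpow_natCast, ← hy, pow_orderOf_eq_one, one_zpow]
        have h4 : y ^ j = 1 := orderOf_eq_one_iff.mp (Nat.eq_one_of_dvd_coprimes hcop'
          (orderOf_dvd_of_pow_eq_one h3) (orderOf_dvd_of_pow_eq_one h2))
        exact Subtype.ext (hwz.trans (by rw [h4, mul_one])).symm
      · rintro ⟨w, hw⟩
        obtain ⟨z, rfl⟩ := QuotientGroup.mk'_surjective _ w
        have hzk : z ^ k ∈ Subgroup.zpowers yC := by
          rw [← map_pow] at hw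
          exact (QuotientGroup.eq_one_iff _).mp hw
        refine ⟨⟨(z ^ e' : C).1, ?_, ?_⟩, Subtype.ext ?_⟩
        · exact (Subgroup.mem_centralizer_singleton_iff.mp (z ^ e').2).symm
        · obtain ⟨j, hj⟩ := hzk
          obtain ⟨m, rfl⟩ := Nat.modEq_zero_iff_dvd.mp he1'
          show ((z ^ (p ^ (a + 1) * m) : C) : G) ^ k = 1
          rw [← SubmonoidClass.coe_pow, ← pow_mul, mul_comm, pow_mul, ← hj, SubmonoidClass.coe_pow,
            SubgroupClass.coe_zpow, ← zpow_natCast (y ^ j), zpow_comm, zpow_natCast, pow_mul, ← hy,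
            pow_orderOf_eq_one, one_pow, one_zpow]
        · show QuotientGroup.mk' _ (z ^ e') = QuotientGroup.mk' _ z
          rw [map_pow]
          conv_rhs => rw [← pow_one (QuotientGroup.mk' _ z)]
          exact pow_eq_pow_iff_modEq.mpr (he2'.of_dvd (orderOf_dvd_of_pow_eq_one hw))
    -- group by conjugacy classes
    rw [← Finset.sum_fiberwise (g := fun y : Y => ConjClasses.mk y.1)]
    refine Finset.dvd_sum fun q _ => ?_
    rcases (Finset.univ.filter fun y : Y => ConjClasses.mk y.1 = q).eq_empty_or_nonempty with h | h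
    · rw [h, Finset.sum_empty]; exact dvd_zero k
    obtain ⟨y, hy⟩ := h
    have hyq : ConjClasses.mk y.1 = q := (Finset.mem_filter.mp hy).2
    have hconst : ∀ x ∈ Finset.univ.filter (fun x : Y => ConjClasses.mk x.1 = q), c x.1 = c y.1 := by
      intro x hx
      obtain ⟨g, hg⟩ := isConj_iff.mp (ConjClasses.mk_eq_mk_iff_isConj.mp
        (hyq.trans (Finset.mem_filter.mp hx).2.symm))
      refine (Nat.card_congr (Equiv.subtypeEquiv (MulAut.conj g).toEquiv fun z => ?_)).symm
      show Commute y.1 z ∧ z ^ k = 1 ↔ Commute x.1 (MulAut.conj g z) ∧ (MulAut.conj g z) ^ k = 1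
      rw [← hg, show g * y.1 * g⁻¹ = MulAut.conj g y.1 from rfl,
        commute_map_iff (MulAut.conj g).injective, ← map_pow,
        EmbeddingLike.map_eq_one_iff]
    rw [Finset.sum_eq_card_nsmul hconst, smul_eq_mul]
    have hclass : (Finset.univ.filter fun x : Y => ConjClasses.mk x.1 = q).card *
        Nat.card (Subgroup.centralizer ({y.1} : Set G)) = Nat.card G := by
      have hbij : {x // x ∈ Finset.univ.filter fun x : Y => ConjClasses.mk x.1 = q} ≃
          MulAction.orbit (ConjAct G) y.1 :=
        { toFun := fun x => ⟨x.1.1, by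
            rw [ConjAct.mem_orbit_conjAct, ← ConjClasses.mk_eq_mk_iff_isConj,
              (Finset.mem_filter.mp x.2).2, hyq]⟩
          invFun := fun x => ⟨⟨x.1, by
            obtain ⟨g, hg⟩ := x.2
            rw [← hg]
            show orderOf (g • y.1) = _
            rw [show (g • y.1) = MulAut.conj (ConjAct.ofConjAct g) y.1 from ConjAct.smul_def g y.1,
              MulEquiv.orderOf_eq, y.2]⟩,
            Finset.mem_filter.mpr ⟨Finset.mem_univ _, by
              rw [← hyq, ConjClasses.mk_eq_mk_iff_isConj]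
              exact ConjAct.mem_orbit_conjAct.mp x.2⟩⟩
          left_inv := fun x => rfl
          right_inv := fun x => rfl }
      rw [← Fintype.card_coe, Fintype.card_congr hbij, ← Nat.card_eq_fintype_card,
        Nat.card_coe_set_eq, ← MulAction.index_stabilizer]
      have : MulAction.stabilizer (ConjAct G) y.1 = Subgroup.centralizer ({ConjAct.toConjAct y.1} : Set (ConjAct G)) :=
        ConjAct.stabilizer_eq_centralizer y.1
      rw [this]
      exact Subgroup.index_mul_card _
    obtain ⟨t, ht⟩ := hfib y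
    rw [ht, ← mul_assoc]
    refine Dvd.dvd.mul_right ?_ t
    rw [← Nat.gcd_mul_left, hclass]
    exact Nat.dvd_gcd (dvd_mul_left k _) ((dvd_mul_left k _).trans ((dvd_mul_right _ p).trans hnp))

/-- Frobenius: `gcd n #G` divides the number of solutions of `g ^ n = 1`. -/
theorem gcd_dvd_card_pow_eq_one {G : Type u} [Group G] [Finite G] (n : ℕ) :
    Nat.gcd n (Nat.card G) ∣ Nat.card {g : G // g ^ n = 1} := by
  induction hG : Nat.card G using Nat.strong_induction_on generalizing G n with
  | _ N ih =>
  subst hG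
  have h := dvd_card_pow_eq_one_of_smaller (G := G)
    (fun H _ _ hlt k => ih _ hlt k rfl) _ (Nat.gcd_dvd_right n (Nat.card G))
  refine h.trans (dvd_of_eq (Nat.card_congr (Equiv.subtypeEquivRight fun g => ?_)))
  rw [pow_gcd_eq_one]
  exact and_iff_left pow_card_eq_one'

/-- Frobenius: a divisor `n` of the group order divides the number of solutions of `g ^ n = 1`. -/
theorem dvd_card_pow_eq_one {G : Type u} [Group G] [Finite G] {n : ℕ} (hn : n ∣ Nat.card G) :
    n ∣ Nat.card {g : G // g ^ n = 1} := by
  have h := gcd_dvd_card_pow_eq_one (G := G) n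
  rwa [Nat.gcd_eq_left hn] at h

/-- The number of elements whose order is divisible by `n` is divisible by every divisor of the group
order that is prime to `n`. -/
theorem dvd_card_dvd_orderOf {G : Type u} [Group G] [Finite G] {n M : ℕ} (hn : 0 < n)
    (hM : M ∣ Nat.card G) (hMn : Nat.Coprime M n) : M ∣ Nat.card {g : G // n ∣ orderOf g} := by
  classical
  cases nonempty_fintype G
  suffices H : ∀ (s : Finset ℕ), s ⊆ n.primeFactors → ∀ D : ℕ, M ∣ D → D ∣ Nat.card G →
      M ∣ Nat.card {g : G // g ^ D = 1 ∧ ∀ q ∈ s, q ^ n.factorization q ∣ orderOf g} by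
    refine (H _ (le_refl _) (Nat.card G) hM dvd_rfl).trans
      (dvd_of_eq (Nat.card_congr (Equiv.subtypeEquivRight fun g => ?_)))
    refine ⟨fun h => ?_, fun h => ⟨pow_card_eq_one', fun q _ => (Nat.ordProj_dvd n q).trans h⟩⟩
    rw [← Nat.factorization_le_iff_dvd hn.ne' (orderOf_pos g).ne']
    intro q
    by_cases hq : q ∈ n.primeFactors
    · exact ((Nat.prime_of_mem_primeFactors hq).pow_dvd_iff_le_factorization
        (orderOf_pos g).ne').mp (h.2 q hq)
    · rw [← Nat.support_factorization, Finsupp.notMem_support_iff] at hq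
      rw [hq]
      exact Nat.zero_le _
  intro s
  induction s using Finset.induction_on with
  | empty =>
    intro _ D hMD hD
    refine hMD.trans ((dvd_card_pow_eq_one hD).trans (dvd_of_eq ?_))
    exact Nat.card_congr (Equiv.subtypeEquivRight fun g => by simp)
  | insert q s hqs ih =>
    intro hsub D hMD hD
    have hq := hsub (Finset.mem_insert_self q s)
    have hs : s ⊆ n.primeFactors := (Finset.subset_insert q s).trans hsub
    have hqp := Nat.prime_of_mem_primeFactors hq
    have he : 0 < n.factorization q := hqp.factorization_pos_of_dvd hn.ne' (Nat.dvd_of_mem_primeFactors hq)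
    obtain ⟨b, D', hD', rfl⟩ := Nat.exists_eq_pow_mul_and_not_dvd
      (Nat.pos_of_dvd_of_pos hD Nat.card_pos).ne' q hqp.ne_one
    set c := min b (n.factorization q - 1)
    have hMq : Nat.Coprime M (q ^ b) :=
      ((Nat.Coprime.coprime_dvd_right (Nat.dvd_of_mem_primeFactors hq) hMn)).pow_right b
    have hMD' : M ∣ D' := hMq.dvd_of_dvd_mul_left hMD
    have h2 : M ∣ Nat.card {g : G // g ^ (q ^ c * D') = 1 ∧
        ∀ r ∈ s, r ^ n.factorization r ∣ orderOf g} :=
      ih hs _ (hMD'.trans (dvd_mul_left _ _))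
        ((mul_dvd_mul_right (pow_dvd_pow q (min_le_left _ _)) D').trans hD)
    have h1 := ih hs _ hMD hD
    have hiff : ∀ g : G, g ^ (q ^ c * D') = 1 ↔
        g ^ (q ^ b * D') = 1 ∧ ¬ q ^ n.factorization q ∣ orderOf g := by
      intro g
      simp only [← orderOf_dvd_iff_pow_eq_one]
      constructor
      · intro h
        refine ⟨h.trans (mul_dvd_mul_right (pow_dvd_pow q (min_le_left _ _)) D'), fun hcon => ?_⟩
        have h3 := (((hqp.coprime_iff_not_dvd.mpr hD').pow_left _).dvd_of_dvd_mul_right
          (hcon.trans h))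
        have h4 := (Nat.pow_dvd_pow_iff_le_right hqp.one_lt).mp h3
        omega
      · rintro ⟨h, hcon⟩
        obtain ⟨x, o', ho', hxo⟩ := Nat.exists_eq_pow_mul_and_not_dvd (orderOf_pos g).ne' q hqp.ne_one
        rw [hxo] at h hcon ⊢
        have hx : x ≤ b := by
          have h3 := ((hqp.coprime_iff_not_dvd.mpr hD').pow_left _).dvd_of_dvd_mul_right
            ((dvd_mul_right _ _).trans h)
          exact (Nat.pow_dvd_pow_iff_le_right hqp.one_lt).mp h3
        have hxe : x < n.factorization q := by
          by_contra hge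
          exact hcon ((pow_dvd_pow q (not_lt.mp hge)).trans (dvd_mul_right _ _))
        have ho : o' ∣ D' :=
          ((hqp.coprime_iff_not_dvd.mpr ho').symm.pow_right _).dvd_of_dvd_mul_left
            ((dvd_mul_left _ _).trans h)
        exact mul_dvd_mul (pow_dvd_pow q (le_min hx (Nat.le_sub_one_of_lt hxe))) ho
    have hsplit : Nat.card {g : G // g ^ (q ^ b * D') = 1 ∧
          ∀ r ∈ s, r ^ n.factorization r ∣ orderOf g} =
        Nat.card {g : G // g ^ (q ^ c * D') = 1 ∧ ∀ r ∈ s, r ^ n.factorization r ∣ orderOf g} +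
        Nat.card {g : G // g ^ (q ^ b * D') = 1 ∧
          ∀ r ∈ insert q s, r ^ n.factorization r ∣ orderOf g} := by
      simp only [Nat.card_eq_fintype_card, Fintype.card_subtype]
      rw [← Finset.card_union_of_disjoint]
      · refine congrArg Finset.card ?_
        ext g
        simp only [Finset.mem_union, Finset.mem_filter, Finset.mem_univ, true_and, hiff,
          Finset.forall_mem_insert]
        tauto
      · refine Finset.disjoint_filter.mpr fun g _ h h' => ?_
        exact ((hiff g).mp h.1).2 (h'.2 q (Finset.mem_insert_self q s))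
    rw [hsplit] at h1
    exact (Nat.dvd_add_right h2).mp h1

end Cfsg.Agent.Lib.OrderCount
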