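import Mathlib

/-!
The number of subgroups of prime power order, by the method of Wielandt.
-/

universe u

namespace Cfsg.Agent.Lib.OrderCount

open scoped Pointwise

/-- `C (p ^ b * t - 1) (p ^ b - 1) ≡ 1 [MOD p]`. -/
theorem choose_sub_one_modEq {p : ℕ} [hp : Fact p.Prime] (b : ℕ) {t : ℕ} (ht : 0 < t) :
    Nat.choose (p ^ b * t - 1) (p ^ b - 1) ≡ 1 [MOD p] := by
  induction b with
  | zero => simp; rfl
  | succ b ih =>
    have hp1 := hp.out.one_lt
    have key : ∀ x : ℕ, 0 < x → (p * x - 1) % p = p - 1 ∧ (p * x - 1) / p = x - 1 := by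
      intro x hx
      have h : p * x - 1 = p - 1 + p * (x - 1) := by
        rw [Nat.mul_sub, mul_one]
        have := Nat.le_mul_of_pos_right p hx
        omega
      constructor
      · rw [h, Nat.add_mul_mod_self_left, Nat.mod_eq_of_lt (by omega)]
      · rw [h, Nat.add_mul_div_left _ _ (by omega), Nat.div_eq_of_lt (by omega), zero_add]
    obtain ⟨h1, h2⟩ := key (p ^ b * t) (Nat.mul_pos (pow_pos hp.out.pos b) ht)
    obtain ⟨h3, h4⟩ := key (p ^ b) (pow_pos hp.out.pos b)
    refine Choose.choose_modEq_choose_mod_mul_choose_div_nat.trans ?_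
    rw [show p ^ (b + 1) * t = p * (p ^ b * t) by ring, show p ^ (b + 1) = p * p ^ b by ring,
      h1, h2, h3, h4, Nat.choose_self, one_mul]
    exact ih

theorem card_stabilizer_dvd_card {G : Type u} [Group G] [Finite G] [DecidableEq G] (S : Finset G) :
    Nat.card (MulAction.stabilizer G S) ∣ S.card := by
  let H := MulAction.stabilizer G S
  let inst : MulAction H S :=
    { smul := fun h x => ⟨(h : G) * x.1, by
        have := Finset.smul_mem_smul_finset (a := (h : G)) x.2
        rwa [MulAction.mem_stabilizer_iff.mp h.2] at this⟩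
      one_smul := fun x => Subtype.ext (one_mul x.1)
      mul_smul := fun a b x => Subtype.ext (mul_assoc (a : G) b x.1) }
  have hfree : ∀ x : S, MulAction.stabilizer H x = ⊥ := fun x => by
    rw [eq_bot_iff]
    intro h hh
    have h1 : (h : G) * x.1 = x.1 := congrArg Subtype.val hh
    exact Subtype.ext (by simpa using h1)
  have e := MulAction.selfEquivOrbitsQuotientProd hfree
  rw [← Fintype.card_coe, ← Nat.card_eq_fintype_card, Nat.card_congr e, Nat.card_prod]
  exact dvd_mul_left _ _

theorem card_subgroups_modEq_one {G : Type u} [Group G] [Finite G] (p b : ℕ) (hp : p.Prime)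
    (hdiv : p ^ b ∣ Nat.card G) :
    Nat.card {H : Subgroup G // Nat.card H = p ^ b} ≡ 1 [MOD p] := by
  classical
  cases nonempty_fintype G
  haveI : Fact p.Prime := ⟨hp⟩
  obtain ⟨t, ht⟩ := hdiv
  set q := p ^ b with hq
  have hq0 : 0 < q := pow_pos hp.pos b
  have ht0 : 0 < t := Nat.pos_of_ne_zero fun h => by
    have := Nat.card_pos (α := G)
    rw [ht, h, mul_zero] at this
    omega
  let stab := fun S : Finset G => MulAction.stabilizer G S
  -- the subsets whose stabiliser is as large as possible are the right cosets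
  let F := {S : Finset G // S.card = q ∧ Nat.card (stab S) = q}
  let N := {S : Finset G // S.card = q ∧ Nat.card (stab S) ≠ q}
  set n := Nat.card {H : Subgroup G // Nat.card H = q}
  have hco : ∀ (H : Subgroup G) (g : G),
      (Finset.univ.filter fun x => x * g⁻¹ ∈ H).card = Nat.card H ∧
      stab (Finset.univ.filter fun x => x * g⁻¹ ∈ H) = H := by
    intro H g
    constructor
    · rw [← Fintype.card_subtype, ← Nat.card_eq_fintype_card]
      exact Nat.card_congr ⟨fun x => ⟨x.1 * g⁻¹, x.2⟩, fun h => ⟨h.1 * g, by simp⟩,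
        fun x => Subtype.ext (inv_mul_cancel_right _ _), fun h => Subtype.ext (mul_inv_cancel_right _ _)⟩
    · ext a
      simp only [stab, MulAction.mem_stabilizer_iff]
      constructor
      · intro ha
        have h1 : a • g ∈ a • Finset.univ.filter fun x => x * g⁻¹ ∈ H :=
          Finset.smul_mem_smul_finset (by simp)
        rw [ha] at h1
        simpa using h1
      · intro ha
        ext x
        rw [Finset.mem_smul_finset]
        constructor
        · rintro ⟨y, hy, rfl⟩
          simp only [Finset.mem_filter, Finset.mem_univ, true_and, smul_eq_mul] at hy ⊢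
          rw [mul_assoc]; exact H.mul_mem ha hy
        · intro hx
          simp only [Finset.mem_filter, Finset.mem_univ, true_and, smul_eq_mul] at hx ⊢
          exact ⟨a⁻¹ * x, by rw [mul_assoc]; exact H.mul_mem (H.inv_mem ha) hx,
            mul_inv_cancel_left a x⟩
  have hFS : ∀ (S : F), ∀ g ∈ S.1, (Finset.univ.filter fun x => x * g⁻¹ ∈ stab S.1) = S.1 := by
    intro S g hg
    refine Finset.eq_of_subset_of_card_le ?_ ?_
    · intro x hx
      have h1 : (x * g⁻¹) • S.1 = S.1 := MulAction.mem_stabilizer_iff.mp (Finset.mem_filter.mp hx).2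
      have h2 := Finset.smul_mem_smul_finset (a := x * g⁻¹) hg
      rw [h1, smul_eq_mul, inv_mul_cancel_right] at h2
      exact h2
    · refine le_of_eq ?_
      rw [S.2.1]
      convert S.2.2.symm.trans (hco (stab S.1) g).1.symm
  have eF : {H : Subgroup G // Nat.card H = q} × G ≃ Σ S : F, {g // g ∈ S.1} :=
    { toFun := fun Hg => ⟨⟨Finset.univ.filter fun x => x * Hg.2⁻¹ ∈ Hg.1.1,
        (hco Hg.1.1 Hg.2).1.trans Hg.1.2, by rw [(hco Hg.1.1 Hg.2).2]; exact Hg.1.2⟩, Hg.2, by simp⟩
      invFun := fun Sg => (⟨stab Sg.1.1, Sg.1.2.2⟩, Sg.2.1)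
      left_inv := fun Hg => Prod.ext (Subtype.ext (hco Hg.1.1 Hg.2).2) rfl
      right_inv := fun Sg => Sigma.subtype_ext (Subtype.ext (by convert hFS Sg.1 Sg.2.1 Sg.2.2)) rfl }
  have hF : Nat.card F = n * t := by
    have h := Nat.card_congr eF
    rw [Nat.card_prod, Nat.card_sigma, ht] at h
    simp only [Nat.card_eq_fintype_card (α := {g // g ∈ (_ : F).1}), Fintype.card_coe] at h
    rw [Finset.sum_congr rfl (fun S _ => S.2.1), Finset.sum_const, smul_eq_mul, Finset.card_univ,
      ← Nat.card_eq_fintype_card] at h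
    exact Nat.eq_of_mul_eq_mul_right hq0 (by rw [← h, mul_comm q t, mul_assoc])
  -- the other subsets fall into orbits of length divisible by `t p`
  let inst : MulAction G N :=
    { smul := fun a S => ⟨a • S.1, by rw [Finset.card_smul_finset]; exact S.2.1, by
        simp only [stab, MulAction.stabilizer_smul_eq_stabilizer_map_conj]
        rw [Nat.card_congr ((MulAction.stabilizer G S.1).equivMapOfInjective _
          (MulAut.conj a).injective).toEquiv.symm]
        exact S.2.2⟩
      one_smul := fun S => Subtype.ext (one_smul G S.1)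
      mul_smul := fun a c S => Subtype.ext (mul_smul a c S.1) }
  have hN : t * p ∣ Nat.card N := by
    rw [Nat.card_congr (MulAction.selfEquivSigmaOrbits G N), Nat.card_sigma]
    refine Finset.dvd_sum fun o _ => ?_
    rw [Nat.card_coe_set_eq, ← MulAction.index_stabilizer]
    set S := o.out with hS
    have hst : MulAction.stabilizer G S = stab S.1 := by
      ext a
      simp only [stab, MulAction.mem_stabilizer_iff]
      exact ⟨fun h => congrArg Subtype.val h, fun h => Subtype.ext h⟩
    rw [hst]
    obtain ⟨c, hc, hceq⟩ := (Nat.dvd_prime_pow hp).mp (S.2.1 ▸ card_stabilizer_dvd_card S.1)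
    have hcb : c < b := lt_of_le_of_ne hc fun h => S.2.2 (hceq.trans ((congrArg (p ^ ·) h).trans hq.symm))
    have h := (stab S.1).index_mul_card
    rw [hceq, ht] at h
    refine ⟨p ^ (b - c - 1), Nat.eq_of_mul_eq_mul_right (pow_pos hp.pos c) ?_⟩
    rw [h]
    show p ^ b * t = _
    have : p ^ b = p ^ (b - c - 1) * p * p ^ c := by
      rw [← pow_succ, ← pow_add]; congr 1; omega
    rw [this]; ring
  -- total
  have htot : Nat.choose (Nat.card G) q = Nat.card F + Nat.card N := by
    rw [← Nat.card_sum, Nat.card_eq_fintype_card (α := G), ← Fintype.card_finset_len,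
      ← Nat.card_eq_fintype_card]
    exact Nat.card_congr
      { toFun := fun S => if h : Nat.card (stab S.1) = q then .inl ⟨S.1, S.2, h⟩ else .inr ⟨S.1, S.2, h⟩
        invFun := fun x => x.elim (fun S => ⟨S.1, S.2.1⟩) (fun S => ⟨S.1, S.2.1⟩)
        left_inv := fun S => by
          dsimp only
          split <;> rfl
        right_inv := fun x => by
          rcases x with S | S
          · simp only [Sum.elim_inl, S.2.2, ↓reduceDIte]; rfl
          · simp only [Sum.elim_inr, S.2.2, ↓reduceDIte]; rfl }
  have hchoose : Nat.choose (Nat.card G) q = t * Nat.choose (q * t - 1) (q - 1) := by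
    obtain ⟨q', hq'⟩ : ∃ q', q = q' + 1 := ⟨q - 1, by omega⟩
    obtain ⟨M, hM⟩ : ∃ M, q * t = M + 1 := ⟨q * t - 1, by
      have := Nat.mul_pos hq0 ht0; omega⟩
    rw [ht, hM, Nat.add_sub_cancel, hq', Nat.add_sub_cancel]
    refine Nat.eq_of_mul_eq_mul_right (show 0 < q' + 1 by omega) ?_
    rw [← Nat.add_one_mul_choose_eq, ← hM, hq']
    ring
  rw [hchoose, hF] at htot
  obtain ⟨w, hw⟩ := hN
  rw [hw] at htot
  have h5 : Nat.choose (q * t - 1) (q - 1) = n + p * w :=
    Nat.eq_of_mul_eq_mul_left ht0 (by rw [htot]; ring)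
  have h6 := choose_sub_one_modEq (p := p) b ht0
  rw [← hq, h5] at h6
  exact (Nat.ModEq.symm (Nat.add_mul_mod_self_left n p w)).trans h6

end Cfsg.Agent.Lib.OrderCount
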