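import Mathlib
import Cfsg.Agent.Lib.OrderCount.Subgroups
import Cfsg.Agent.Lib.Core.Nilpotent
import Cfsg.Agent.Lib.Elem69.PGroupSmall

/-!
The number of subgroups of prime power order modulo `p ^ 2` (Kulakoff, P. Hall).
-/

set_option autoImplicit false

namespace Cfsg.Agent.Lib.OrderCount

open scoped Pointwise

variable {G : Type*} [Group G] [Finite G] {p : ℕ} [hp : Fact p.Prime]

open scoped Classical in
/-- The number of `(|K| m)`-subsets stable under left multiplication by `K`. -/
theorem card_sets_stab_ge [Fintype G] [DecidableEq G] (K : Subgroup G) (m : ℕ) :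
    ((Finset.univ.powersetCard (Nat.card K * m)).filter fun S : Finset G =>
      K ≤ MulAction.stabilizer G S).card = Nat.choose K.index m := by
  classical
  letI : Setoid G := QuotientGroup.rightRel K
  let Ω := Quotient (QuotientGroup.rightRel K)
  let π : G → Ω := Quotient.mk''
  haveI : Fintype Ω := Fintype.ofFinite _
  have hπ : ∀ x y, π x = π y ↔ y * x⁻¹ ∈ K := fun x y => by
    rw [Quotient.eq'', QuotientGroup.rightRel_apply]
  have hΩ : Fintype.card Ω = K.index := by
    rw [← Nat.card_eq_fintype_card, Nat.card_congr (QuotientGroup.quotientRightRelEquivQuotientLeftRel K)]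
    rfl
  have hfib : ∀ c : Ω, (Finset.univ.filter fun x => π x = c).card = Nat.card K := by
    intro c
    induction c using Quotient.inductionOn' with | _ g =>
    rw [← Fintype.card_subtype, ← Nat.card_eq_fintype_card]
    exact Nat.card_congr
      { toFun := fun x => ⟨g * x.1⁻¹, (hπ x.1 g).mp x.2⟩
        invFun := fun k => ⟨(k : G)⁻¹ * g, (hπ _ g).mpr (by simp)⟩
        left_inv := fun x => Subtype.ext (by simp)
        right_inv := fun k => Subtype.ext (by simp) }
  have hsat : ∀ S : Finset G, K ≤ MulAction.stabilizer G S →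
      (Finset.univ.filter fun x => π x ∈ S.image π) = S := by
    intro S hS
    ext x
    simp only [Finset.mem_filter, Finset.mem_univ, true_and, Finset.mem_image]
    refine ⟨fun ⟨y, hy, hyx⟩ => ?_, fun hx => ⟨x, hx, rfl⟩⟩
    have h1 := Finset.smul_mem_smul_finset (a := x * y⁻¹) hy
    rw [MulAction.mem_stabilizer_iff.mp (hS ((hπ y x).mp hyx)), smul_eq_mul, inv_mul_cancel_right] at h1
    exact h1
  have hcard : ∀ T : Finset Ω, (Finset.univ.filter fun x => π x ∈ T).card = Nat.card K * T.card := by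
    intro T
    rw [Finset.card_eq_sum_card_fiberwise (s := Finset.univ.filter fun x => π x ∈ T) (f := π) (t := T)
        (fun x hx => (Finset.mem_filter.mp hx).2),
      Finset.sum_congr rfl (fun c hc => ?_), Finset.sum_const, smul_eq_mul, mul_comm]
    rw [← hfib c, Finset.filter_filter]
    congr 1
    ext x
    simp only [Finset.mem_filter, Finset.mem_univ, true_and]
    exact ⟨fun h => h.2, fun h => ⟨h ▸ hc, h⟩⟩
  rw [← hΩ, ← Finset.card_univ (α := Ω), ← Finset.card_powersetCard]
  refine Finset.card_bij' (fun S _ => S.image π) (fun T _ => Finset.univ.filter fun x => π x ∈ T) ?_ ?_ ?_ ?_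
  · intro S hS
    simp only [Finset.mem_filter, Finset.mem_powersetCard] at hS
    rw [Finset.mem_powersetCard]
    refine ⟨Finset.subset_univ _, Nat.eq_of_mul_eq_mul_left (Nat.card_pos (α := K)) ?_⟩
    rw [← hcard, hsat S hS.2, hS.1.2]
  · intro T hT
    rw [Finset.mem_powersetCard] at hT
    simp only [Finset.mem_filter, Finset.mem_powersetCard]
    refine ⟨⟨Finset.subset_univ _, by rw [hcard, hT.2]⟩, fun k hk => ?_⟩
    rw [MulAction.mem_stabilizer_iff]
    ext x
    rw [Finset.mem_smul_finset]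
    constructor
    · rintro ⟨y, hy, rfl⟩
      simp only [Finset.mem_filter, Finset.mem_univ, true_and, smul_eq_mul] at hy ⊢
      rwa [show π (k * y) = π y from ((hπ y (k * y)).mpr (by simpa using hk)).symm]
    · intro hx
      simp only [Finset.mem_filter, Finset.mem_univ, true_and] at hx
      refine ⟨k⁻¹ * x, ?_, by simp⟩
      simp only [Finset.mem_filter, Finset.mem_univ, true_and]
      rwa [show π (k⁻¹ * x) = π x from ((hπ x (k⁻¹ * x)).mpr (by simpa using hk)).symm]
  · intro S hS
    exact hsat S (Finset.mem_filter.mp hS).2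
  · intro T _
    ext c
    simp only [Finset.mem_image, Finset.mem_filter, Finset.mem_univ, true_and]
    refine ⟨fun ⟨x, hx, hxc⟩ => hxc ▸ hx, fun hc => ?_⟩
    obtain ⟨g, rfl⟩ := Quotient.exists_rep c
    exact ⟨g, hc, rfl⟩

/-- A cyclic `p`-group has at most one subgroup of given order. -/
theorem subgroup_eq_of_isCyclic [IsCyclic G] (K L : Subgroup G) (h : Nat.card K = Nat.card L) : K = L :=
  Subgroup.eq_of_le_of_card_ge (fun _ hx => Elem69.mem_of_pow_card_eq_one L
    (h ▸ orderOf_dvd_iff_pow_eq_one.mp (K.orderOf_dvd_natCard hx))) h.ge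

/-- The number of maximal subgroups of a `p`-group, modulo `p ^ 2`. -/
theorem card_maximal_modEq (b : ℕ) (hG : Nat.card G = p ^ (b + 1)) [Decidable (IsCyclic G)] :
    Nat.card {K : Subgroup G // Nat.card K = p ^ b} ≡ (if IsCyclic G then 1 else 1 + p) [MOD p ^ 2] := by
  classical
  have hGp : IsPGroup p G := IsPGroup.of_card hG
  set s := Nat.card {K : Subgroup G // Nat.card K = p ^ b} with hs
  have hindex : ∀ K : Subgroup G, Nat.card K = p ^ b ↔ K.index = p := by
    intro K
    have h := K.card_mul_index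
    rw [hG, pow_succ] at h
    constructor
    · intro hK
      rw [hK] at h
      exact Nat.eq_of_mul_eq_mul_left (pow_pos hp.out.pos b) h
    · intro hK
      rw [hK] at h
      exact Nat.eq_of_mul_eq_mul_right hp.out.pos h
  obtain ⟨K₀, hK₀⟩ := Sylow.exists_subgroup_card_pow_prime p (hG ▸ pow_dvd_pow p b.le_succ : p ^ b ∣ Nat.card G)
  haveI : Nonempty {K : Subgroup G // Nat.card K = p ^ b} := ⟨⟨K₀, hK₀⟩⟩
  have hcoat : ∀ K : Subgroup G, Nat.card K = p ^ b → IsCoatom K := by
    intro K hK
    have hi := (hindex K).mp hK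
    refine ⟨fun h => hp.out.ne_one ?_, fun L hL => ?_⟩
    · rw [← hi, h, Subgroup.index_top]
    · rw [← Subgroup.index_eq_one]
      rcases hp.out.eq_one_or_self_of_dvd _ (hi ▸ Subgroup.index_dvd_of_le hL.le) with h | h
      · exact h
      · exfalso
        exact (Subgroup.index_strictAnti hL).ne (h.trans hi.symm)
  by_cases hc : IsCyclic G
  · rw [if_pos hc]
    haveI : Subsingleton {K : Subgroup G // Nat.card K = p ^ b} :=
      ⟨fun K L => Subtype.ext (subgroup_eq_of_isCyclic _ _ (K.2.trans L.2.symm))⟩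
    rw [hs, Nat.card_of_subsingleton ⟨K₀, hK₀⟩]
  rw [if_neg hc]
  -- two maximal subgroups
  have hs2 : 2 ≤ s := by
    obtain ⟨x, hx⟩ := SetLike.exists_of_lt (lt_top_iff_ne_top.mpr (hcoat K₀ hK₀).1)
    have hx' : Subgroup.zpowers x ≠ ⊤ := fun h => hc (isCyclic_iff_exists_zpowers_eq_top.mpr ⟨x, h⟩)
    obtain ⟨M, hM, hxM⟩ := (eq_top_or_exists_le_coatom _).resolve_left hx'
    have hMc := (hindex M).mpr (Nilp.index_coatom_of_isPGroup hGp hM).2
    rw [hs]
    refine Finite.one_lt_card_iff_nontrivial.mpr ⟨⟨K₀, hK₀⟩, ⟨M, hMc⟩, fun e => hx.2 ?_⟩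
    rw [show K₀ = M from congrArg Subtype.val e]
    exact hxM (Subgroup.mem_zpowers x)
  -- homomorphisms onto a group of order `p`
  let Z := Multiplicative (ZMod p)
  haveI : NeZero p := ⟨hp.out.ne_zero⟩
  have hZ : Nat.card Z = p := Nat.card_zmod p
  haveI : Finite (G →* Z) := Finite.of_injective _ DFunLike.coe_injective
  have hpow : IsPGroup p (G →* Z) := fun φ => ⟨1, by
    refine MonoidHom.ext fun g => ?_
    rw [pow_one]
    show (φ g) ^ p = 1
    exact orderOf_dvd_iff_pow_eq_one.mp ((orderOf_dvd_natCard (φ g)).trans hZ.dvd)⟩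
  have hker : ∀ φ : {φ : G →* Z // φ ≠ 1}, Nat.card φ.1.ker = p ^ b := by
    rintro ⟨φ, hφ⟩
    rw [hindex, Subgroup.index_ker]
    rcases hp.out.eq_one_or_self_of_dvd _ (hZ ▸ φ.range.card_subgroup_dvd_card) with h | h
    · exact absurd (MonoidHom.range_eq_bot_iff.mp (Subgroup.card_eq_one.mp h)) hφ
    · exact h
  let F : {φ : G →* Z // φ ≠ 1} → {K : Subgroup G // Nat.card K = p ^ b} := fun φ => ⟨φ.1.ker, hker φ⟩
  have hfib : ∀ K, Nat.card {φ // F φ = K} = p - 1 := by
    rintro ⟨K, hK⟩
    have hn : K.Normal := (Nilp.index_coatom_of_isPGroup hGp (hcoat K hK)).1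
    have hq : Nat.card (G ⧸ K) = p := by rw [← Subgroup.index_eq_card]; exact (hindex K).mp hK
    haveI := isCyclic_of_prime_card hq
    obtain ⟨e⟩ : Nonempty (G ⧸ K ≃* Z) := ⟨mulEquivOfCyclicCardEq (hq.trans hZ.symm)⟩
    let φ₀ : G →* Z := (e : (G ⧸ K) →* Z).comp (QuotientGroup.mk' K)
    have hφ₀ : φ₀.ker = K := by
      rw [MonoidHom.ker_mulEquiv_comp, QuotientGroup.ker_mk']
    obtain ⟨g, hg⟩ := SetLike.exists_of_lt (lt_top_iff_ne_top.mpr (hcoat K hK).1)
    have hext : ∀ φ ψ : G →* Z, K ≤ φ.ker → K ≤ ψ.ker → φ g = ψ g → φ = ψ := by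
      intro φ ψ h1 h2 h3
      refine MonoidHom.eq_of_eqOn_dense (s := (K : Set G) ∪ {g}) ?_ ?_
      · refine ((hcoat K hK).2 _ (lt_of_le_of_ne ?_ fun e => hg.2 ?_))
        · intro x hx; exact Subgroup.subset_closure (Or.inl hx)
        · rw [e]; exact Subgroup.subset_closure (Or.inr rfl)
      · rintro x (hx | hx)
        · rw [MonoidHom.mem_ker.mp (h1 hx), MonoidHom.mem_ker.mp (h2 hx)]
        · rw [hx]; exact h3
    have hbij : Function.Bijective
        (fun φ : {φ // F φ = (⟨K, hK⟩ : {K : Subgroup G // Nat.card K = p ^ b})} =>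
          (⟨φ.1.1 g, fun h => hg.2 ((SetLike.ext_iff.mp (congrArg Subtype.val φ.2 : φ.1.1.ker = K) g).mp (MonoidHom.mem_ker.mpr h))⟩ :
            {z : Z // z ≠ 1})) := by
      constructor
      · intro φ ψ h
        exact Subtype.ext (Subtype.ext (hext _ _ (congrArg Subtype.val φ.2 : φ.1.1.ker = K).ge
          (congrArg Subtype.val ψ.2 : ψ.1.1.ker = K).ge (congrArg Subtype.val h)))
      · rintro ⟨z, hz⟩
        have hg0 : φ₀ g ≠ 1 := fun h => hg.2 (hφ₀ ▸ MonoidHom.mem_ker.mpr h)
        have hgen : Subgroup.zpowers (φ₀ g) = ⊤ := by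
          rcases hp.out.eq_one_or_self_of_dvd _ (hZ ▸ (Subgroup.zpowers (φ₀ g)).card_subgroup_dvd_card) with h | h
          · exact absurd (Subgroup.zpowers_eq_bot.mp (Subgroup.card_eq_one.mp h)) hg0
          · exact Subgroup.eq_top_of_card_eq _ (h.trans hZ.symm)
        obtain ⟨j, hj⟩ := Subgroup.mem_zpowers_iff.mp (hgen ▸ Subgroup.mem_top z)
        have hgj : (φ₀ ^ j : G →* Z) g = z := by rw [← hj]; rfl
        have hne : (φ₀ ^ j : G →* Z) ≠ 1 := fun h => hz (by rw [← hgj, h]; rfl)
        refine ⟨⟨⟨φ₀ ^ j, hne⟩, Subtype.ext ?_⟩, Subtype.ext hgj⟩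
        show (φ₀ ^ j : G →* Z).ker = K
        refine (Subgroup.eq_of_le_of_card_ge ?_ (by rw [hker ⟨_, hne⟩, hK])).symm
        intro x hx
        rw [MonoidHom.mem_ker]
        show (φ₀ x) ^ j = 1
        rw [MonoidHom.mem_ker.mp (hφ₀.symm ▸ hx), one_zpow]
    rw [Nat.card_congr (Equiv.ofBijective _ hbij)]
    haveI : Fintype Z := Fintype.ofFinite _
    rw [Nat.card_eq_fintype_card, Fintype.card_subtype_compl, Fintype.card_subtype_eq, ← Nat.card_eq_fintype_card, hZ]
  haveI := Fintype.ofFinite {K : Subgroup G // Nat.card K = p ^ b}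
  have h1 : Nat.card {φ : G →* Z // φ ≠ 1} = s * (p - 1) := by
    rw [Nat.card_congr (Equiv.sigmaFiberEquiv F).symm, Nat.card_sigma, Finset.sum_congr rfl (fun K _ => hfib K),
      Finset.sum_const, smul_eq_mul, Finset.card_univ, ← Nat.card_eq_fintype_card]
  obtain ⟨d, hd⟩ := IsPGroup.iff_card.mp hpow
  have h2 : s * (p - 1) + 1 = p ^ d := by
    rw [← h1, ← hd]
    haveI := Fintype.ofFinite (G →* Z)
    rw [Nat.card_eq_fintype_card, Fintype.card_subtype_compl, Fintype.card_subtype_eq, ← Nat.card_eq_fintype_card,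
      Nat.sub_add_cancel Nat.card_pos]
  have hd2 : 2 ≤ d := by
    by_contra hd2
    have h3 : p ^ d ≤ p ^ 1 := Nat.pow_le_pow_right hp.out.pos (by omega)
    rw [← h2, pow_one] at h3
    have := hp.out.two_le
    have h4 : 2 * (p - 1) ≤ s * (p - 1) := Nat.mul_le_mul_right _ hs2
    omega
  have h3 : ((s * (p - 1) + 1 : ℕ) : ZMod (p ^ 2)) = 0 := by
    rw [h2, ZMod.natCast_eq_zero_iff]
    exact pow_dvd_pow p hd2
  have h4 : ((p : ZMod (p ^ 2))) * p = 0 := by
    rw [← Nat.cast_mul, ZMod.natCast_eq_zero_iff, pow_two]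
  rw [Nat.cast_add, Nat.cast_mul, Nat.cast_sub hp.out.one_le, Nat.cast_one] at h3
  rw [← ZMod.natCast_eq_natCast_iff, Nat.cast_add, Nat.cast_one]
  linear_combination (-1 - (p : ZMod (p ^ 2))) * h3 + (s : ZMod (p ^ 2)) * h4

omit hp in
theorem card_subgroupOf_sum (H : Subgroup G) (n : ℕ) :
    Nat.card {K : Subgroup H // Nat.card K = n} = Nat.card {K : Subgroup G // Nat.card K = n ∧ K ≤ H} :=
  Nat.card_congr
    { toFun := fun K => ⟨K.1.map H.subtype, by
        rw [Subgroup.card_map_of_injective H.subtype_injective, K.2], Subgroup.map_subtype_le _⟩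
      invFun := fun K => ⟨K.1.subgroupOf H, by
        rw [Nat.card_congr (Subgroup.subgroupOfEquivOfLe K.2.2).toEquiv, K.2.1]⟩
      left_inv := fun K => Subtype.ext (Subgroup.comap_map_eq_self_of_injective H.subtype_injective _)
      right_inv := fun K => Subtype.ext (Subgroup.map_subgroupOf_eq_of_le K.2.2) }

/-- The basic congruence relating subgroups of orders `p ^ b` and `p ^ (b + 1)`. -/
theorem base_congr (b t : ℕ) (ht : Nat.card G = p ^ (b + 1) * t) :
    ((p ^ (b + 1) * t - 1).choose (p ^ (b + 1) - 1) : ZMod (p ^ 2)) +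
        p * Nat.card {H : Subgroup G // Nat.card H = p ^ (b + 1) ∧ ¬ IsCyclic H} =
      Nat.card {H : Subgroup G // Nat.card H = p ^ b} * ((p * t - 1).choose (p - 1) : ℕ) := by
  classical
  cases nonempty_fintype G
  haveI := Fintype.ofFinite (Subgroup G)
  have ht0 : 0 < t := Nat.pos_of_ne_zero fun h => by
    have := Nat.card_pos (α := G); rw [ht, h, mul_zero] at this; omega
  set q := p ^ (b + 1) with hq
  have hqp : q = p ^ b * p := pow_succ p b
  have hq0 : 0 < q := pow_pos hp.out.pos _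
  let stab := fun S : Finset G => MulAction.stabilizer G S
  let Ω := (Finset.univ : Finset G).powersetCard q
  let Hs := (Finset.univ : Finset (Subgroup G)).filter fun H : Subgroup G => Nat.card H = q
  let Ks := (Finset.univ : Finset (Subgroup G)).filter fun H : Subgroup G => Nat.card H = p ^ b
  have hΩc : ∀ S ∈ Ω, S.card = q := fun S hS => (Finset.mem_powersetCard.mp hS).2
  have hdvd : ∀ S ∈ Ω, Nat.card (stab S) ∣ q := fun S hS => hΩc S hS ▸ card_stabilizer_dvd_card S
  set F := Ω.filter fun S => Nat.card (stab S) = q with hF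
  set M := Ω.filter fun S => Nat.card (stab S) = p ^ b with hM
  set N := Ω.filter fun S => Nat.card (stab S) ≠ q ∧ Nat.card (stab S) ≠ p ^ b with hN
  have hpb : p ^ b ≠ q := (Nat.pow_lt_pow_right hp.out.one_lt b.lt_succ_self).ne
  have htot : Ω.card = F.card + M.card + N.card := by
    rw [hF, hM, hN, ← Finset.card_union_of_disjoint, ← Finset.card_union_of_disjoint]
    · congr 1
      ext S
      simp only [Finset.mem_union, Finset.mem_filter]
      tauto
    · rw [Finset.disjoint_left]
      intro S hS hS'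
      simp only [Finset.mem_union, Finset.mem_filter] at hS hS'
      tauto
    · rw [Finset.disjoint_left]
      intro S hS hS'
      simp only [Finset.mem_filter] at hS hS'
      exact hpb (hS'.2.symm.trans hS.2)
  have hchoose : ∀ r : ℕ, 0 < r → (r * t).choose r = t * (r * t - 1).choose (r - 1) := by
    intro r hr
    obtain ⟨r', rfl⟩ : ∃ r', r = r' + 1 := ⟨r - 1, by omega⟩
    obtain ⟨L, hL⟩ : ∃ L, (r' + 1) * t = L + 1 := ⟨(r' + 1) * t - 1, by
      have := Nat.mul_pos hr ht0; omega⟩
    rw [hL, Nat.add_sub_cancel, Nat.add_sub_cancel]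
    refine Nat.eq_of_mul_eq_mul_right hr ?_
    rw [← Nat.add_one_mul_choose_eq, ← hL]
    ring
  have hΩ : Ω.card = t * (q * t - 1).choose (q - 1) := by
    rw [Finset.card_powersetCard, Finset.card_univ, ← Nat.card_eq_fintype_card, ht, hchoose q hq0]
  -- subsets stable under a subgroup of order `q`
  have hfibF : ∀ H ∈ Hs, (F.filter fun S => stab S = H).card = t := by
    intro H hH
    have hHc : Nat.card H = q := (Finset.mem_filter.mp hH).2
    have hi : H.index = t := by
      have := H.card_mul_index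
      rw [hHc, ht] at this
      exact Nat.eq_of_mul_eq_mul_left hq0 this
    have h := card_sets_stab_ge H 1
    rw [Nat.choose_one_right, hi, mul_one, hHc] at h
    refine Eq.trans (congrArg Finset.card (Finset.ext fun S => ?_)) h
    simp only [hF, Finset.mem_filter]
    constructor
    · rintro ⟨⟨hS, -⟩, hSH⟩
      exact ⟨hS, hSH ▸ le_rfl⟩
    · rintro ⟨hS, hle⟩
      have hd : Nat.card (stab S) ∣ q := hdvd S hS
      have e : H = stab S := Subgroup.eq_of_le_of_card_ge hle (hHc.symm ▸ Nat.le_of_dvd hq0 hd)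
      exact ⟨⟨hS, e ▸ hHc⟩, e.symm⟩
  have hFmaps : ∀ S ∈ F, stab S ∈ Hs := fun S hS =>
    Finset.mem_filter.mpr ⟨Finset.mem_univ _, (Finset.mem_filter.mp hS).2⟩
  have hFc : F.card = t * Hs.card := by
    rw [Finset.card_eq_sum_card_fiberwise hFmaps, Finset.sum_congr rfl hfibF, Finset.sum_const, smul_eq_mul, mul_comm]
  -- double count
  let r : Subgroup G → ℕ := fun H => (Ks.filter fun K => K ≤ H).card
  have hdouble : Ks.card * (t * (p * t - 1).choose (p - 1)) = M.card + t * ∑ H ∈ Hs, r H := by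
    calc Ks.card * (t * (p * t - 1).choose (p - 1))
        = ∑ K ∈ Ks, (Ω.filter fun S => K ≤ stab S).card := by
          rw [Finset.sum_congr rfl (fun K hK => ?_), Finset.sum_const, smul_eq_mul]
          have hKc : Nat.card K = p ^ b := (Finset.mem_filter.mp hK).2
          have hi : K.index = p * t := by
            have := K.card_mul_index
            rw [hKc, ht, hqp, mul_assoc] at this
            exact Nat.eq_of_mul_eq_mul_left (pow_pos hp.out.pos b) this
          have h := card_sets_stab_ge K p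
          rw [hi, hKc, ← hqp, hchoose p hp.out.pos] at h
          exact h
      _ = ∑ S ∈ Ω, r (stab S) := by
          simp only [r, Finset.card_filter]
          exact Finset.sum_comm
      _ = ∑ S ∈ F, r (stab S) + ∑ S ∈ M, r (stab S) := by
          rw [← Finset.sum_union]
          · refine (Finset.sum_subset ?_ ?_).symm
            · intro S hS
              simp only [hF, hM, Finset.mem_union, Finset.mem_filter] at hS
              tauto
            · intro S hS hS'
              simp only [hF, hM, Finset.mem_union, Finset.mem_filter] at hS'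
              refine Finset.card_eq_zero.mpr (Finset.filter_eq_empty_iff.mpr fun K hK hle => ?_)
              obtain ⟨c, hc, hce⟩ := (Nat.dvd_prime_pow hp.out).mp (hdvd S hS)
              have hKc : Nat.card K = p ^ b := (Finset.mem_filter.mp hK).2
              have hcle := Subgroup.card_dvd_of_le hle
              rw [hKc, hce, Nat.pow_dvd_pow_iff_le_right hp.out.one_lt] at hcle
              rcases Nat.eq_or_lt_of_le hc with h | h
              · exact hS' (Or.inl ⟨hS, by rw [hce, h]⟩)
              · exact hS' (Or.inr ⟨hS, by rw [hce, show c = b by omega]⟩)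
          · rw [Finset.disjoint_left]
            intro S hS hS'
            exact hpb ((Finset.mem_filter.mp hS').2.symm.trans (Finset.mem_filter.mp hS).2)
      _ = t * ∑ H ∈ Hs, r H + M.card := by
          congr 1
          · rw [← Finset.sum_fiberwise_of_maps_to hFmaps, Finset.mul_sum]
            refine Finset.sum_congr rfl fun H hH => ?_
            rw [Finset.sum_congr rfl (fun S hS => congrArg r (Finset.mem_filter.mp hS).2), Finset.sum_const,
              hfibF H hH, smul_eq_mul]
          · rw [Finset.sum_congr rfl (fun S hS => ?_), Finset.sum_const, smul_eq_mul, mul_one]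
            have hSc := (Finset.mem_filter.mp hS).2
            refine Finset.card_eq_one.mpr ⟨stab S, ?_⟩
            ext K
            simp only [Ks, Finset.mem_filter, Finset.mem_univ, true_and, Finset.mem_singleton]
            refine ⟨fun ⟨h1, h2⟩ => Subgroup.eq_of_le_of_card_ge h2 (h1.symm ▸ hSc.le), ?_⟩
            rintro rfl; exact ⟨hSc, le_rfl⟩
      _ = _ := add_comm _ _
  -- the other subsets
  have hN2 : t * p ^ 2 ∣ N.card := by
    let inst : MulAction G {S : Finset G // S ∈ N} :=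
      { smul := fun a S => ⟨a • S.1, by
          have h := S.2
          simp only [hN, Ω, Finset.mem_filter, Finset.mem_powersetCard, Finset.subset_univ, true_and] at h ⊢
          have e : Nat.card (stab (a • S.1)) = Nat.card (stab S.1) := by
            simp only [stab, MulAction.stabilizer_smul_eq_stabilizer_map_conj]
            exact (Nat.card_congr ((MulAction.stabilizer G S.1).equivMapOfInjective _
              (MulAut.conj a).injective).toEquiv).symm
          rw [Finset.card_smul_finset, e]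
          exact h⟩
        one_smul := fun S => Subtype.ext (one_smul G S.1)
        mul_smul := fun a c S => Subtype.ext (mul_smul a c S.1) }
    rw [← Nat.card_eq_finsetCard, Nat.card_congr (MulAction.selfEquivSigmaOrbits G _)]
    haveI := Fintype.ofFinite (Quotient (MulAction.orbitRel G {S : Finset G // S ∈ N}))
    rw [Nat.card_sigma]
    refine Finset.dvd_sum fun o _ => ?_
    rw [Nat.card_coe_set_eq, ← MulAction.index_stabilizer]
    set S := o.out with hS
    have hst : MulAction.stabilizer G S = stab S.1 := by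
      ext a
      simp only [stab, MulAction.mem_stabilizer_iff]
      exact ⟨fun h => congrArg Subtype.val h, fun h => Subtype.ext h⟩
    rw [hst]
    have hmem := Finset.mem_filter.mp S.2
    obtain ⟨c, hc, hceq⟩ := (Nat.dvd_prime_pow hp.out).mp (hdvd _ hmem.1)
    have hcb : c < b := by
      rcases Nat.eq_or_lt_of_le hc with h | h
      · exact absurd (by rw [hceq, h]) hmem.2.1
      rcases Nat.eq_or_lt_of_le (Nat.lt_succ_iff.mp h) with h' | h'
      · exact absurd (by rw [hceq, h']) hmem.2.2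
      exact h'
    have h := (stab S.1).index_mul_card
    rw [hceq, ht] at h
    refine ⟨p ^ (b - c - 1), Nat.eq_of_mul_eq_mul_right (pow_pos hp.out.pos c) ?_⟩
    rw [h]
    have : p ^ (b + 1) = p ^ 2 * p ^ (b - c - 1) * p ^ c := by
      rw [← pow_add, ← pow_add]; congr 1; omega
    rw [hq, this]; ring
  obtain ⟨w, hw⟩ := hN2
  have hid : (q * t - 1).choose (q - 1) + ∑ H ∈ Hs, r H =
      Hs.card + Ks.card * (p * t - 1).choose (p - 1) + p ^ 2 * w := by
    refine Nat.eq_of_mul_eq_mul_left ht0 ?_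
    have e1 : t * ∑ H ∈ Hs, r H + M.card = t * (Ks.card * (p * t - 1).choose (p - 1)) := by
      rw [add_comm, ← hdouble]; ring
    rw [mul_add, ← hΩ, htot, hFc, hw]
    linarith
  have hr : ∀ H ∈ Hs, (r H : ZMod (p ^ 2)) = 1 + p * (if IsCyclic H then 0 else 1) := by
    intro H hH
    have hHc : Nat.card H = p ^ (b + 1) := (Finset.mem_filter.mp hH).2
    have h := card_maximal_modEq (G := H) b hHc
    rw [card_subgroupOf_sum, ← ZMod.natCast_eq_natCast_iff] at h
    have e : r H = Nat.card {K : Subgroup G // Nat.card K = p ^ b ∧ K ≤ H} := by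
      rw [Nat.card_eq_fintype_card, Fintype.card_subtype]
      simp only [r, Ks, Finset.filter_filter]
    rw [e, h]
    split_ifs <;> simp
  have hnc : Nat.card {H : Subgroup G // Nat.card H = q ∧ ¬ IsCyclic H} =
      ∑ H ∈ Hs, (if IsCyclic H then 0 else 1) := by
    rw [Nat.card_eq_fintype_card, Fintype.card_subtype, Finset.card_filter, Finset.sum_filter]
    refine Finset.sum_congr rfl fun H _ => ?_
    split_ifs <;> simp_all
  have hKs : Nat.card {H : Subgroup G // Nat.card H = p ^ b} = Ks.card := by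
    rw [Nat.card_eq_fintype_card, Fintype.card_subtype]
  have hfin := congrArg (Nat.cast (R := ZMod (p ^ 2))) hid
  push_cast at hfin
  rw [Finset.sum_congr rfl hr, Finset.sum_add_distrib, Finset.sum_const, nsmul_eq_mul, mul_one, ← Finset.mul_sum] at hfin
  rw [hnc, hKs, Nat.cast_sum]
  simp only [Nat.cast_ite, Nat.cast_zero, Nat.cast_one]
  have hp2 : (p : ZMod (p ^ 2)) ^ 2 = 0 := by
    rw [← Nat.cast_pow, ZMod.natCast_self]
  linear_combination hfin + (w : ZMod (p ^ 2)) * hp2

/-- The number of subgroups of order `p ^ b` is `1 + p * nc` modulo `p ^ 2`, `nc` the number of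
noncyclic subgroups of order `p ^ (b + 1)`. -/
theorem card_subgroups_modEq_sq (b : ℕ) (hdiv : p ^ (b + 1) ∣ Nat.card G) :
    Nat.card {H : Subgroup G // Nat.card H = p ^ b} ≡
      1 + p * Nat.card {H : Subgroup G // Nat.card H = p ^ (b + 1) ∧ ¬ IsCyclic H} [MOD p ^ 2] := by
  classical
  obtain ⟨t, ht⟩ := hdiv
  have h1 := base_congr b t ht
  -- the cyclic group of the same order
  haveI : NeZero (Nat.card G) := ⟨Nat.card_pos.ne'⟩
  let C := Multiplicative (ZMod (Nat.card G))
  have hC : Nat.card C = Nat.card G := Nat.card_zmod _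
  have h2 := base_congr (G := C) b t (hC.trans ht)
  haveI : IsEmpty {H : Subgroup C // Nat.card H = p ^ (b + 1) ∧ ¬ IsCyclic H} :=
    ⟨fun H => H.2.2 inferInstance⟩
  have hone : Nat.card {H : Subgroup C // Nat.card H = p ^ b} = 1 := by
    obtain ⟨K, hK⟩ := Sylow.exists_subgroup_card_pow_prime (G := C) p (n := b)
      (hC ▸ ht ▸ dvd_mul_of_dvd_left (pow_dvd_pow p b.le_succ) t)
    haveI : Subsingleton {H : Subgroup C // Nat.card H = p ^ b} :=
      ⟨fun K L => Subtype.ext (subgroup_eq_of_isCyclic _ _ (K.2.trans L.2.symm))⟩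
    exact Nat.card_of_subsingleton ⟨K, hK⟩
  rw [Nat.card_of_isEmpty, hone, Nat.cast_zero, mul_zero, add_zero, Nat.cast_one, one_mul] at h2
  rw [h2] at h1
  have ht0 : 0 < t := Nat.pos_of_ne_zero fun h => by
    have := Nat.card_pos (α := G); rw [ht, h, mul_zero] at this; omega
  obtain ⟨u, hu⟩ : ∃ u : ℤ, (((p * t - 1).choose (p - 1) : ℕ) : ℤ) = 1 + p * u := by
    have h := choose_sub_one_modEq (p := p) 1 ht0
    rw [pow_one] at h
    obtain ⟨u, hu⟩ := h.symm.dvd
    exact ⟨u, by rw [Nat.cast_one] at hu; linarith⟩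
  obtain ⟨v, hv⟩ : ∃ v : ℤ, ((Nat.card {H : Subgroup G // Nat.card H = p ^ b} : ℕ) : ℤ) = 1 + p * v := by
    have h := card_subgroups_modEq_one p b hp.out (dvd_trans (pow_dvd_pow p b.le_succ) ⟨t, ht⟩)
    obtain ⟨v, hv⟩ := h.symm.dvd
    exact ⟨v, by rw [Nat.cast_one] at hv; linarith⟩
  have hu' := congrArg (Int.cast (R := ZMod (p ^ 2))) hu
  have hv' := congrArg (Int.cast (R := ZMod (p ^ 2))) hv
  push_cast at hu' hv'
  have hp2 : (p : ZMod (p ^ 2)) ^ 2 = 0 := by
    rw [← Nat.cast_pow, ZMod.natCast_self]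
  rw [← ZMod.natCast_eq_natCast_iff, Nat.cast_add, Nat.cast_mul, Nat.cast_one]
  rw [hu', hv'] at h1
  rw [hv']
  linear_combination -h1 - (u : ZMod (p ^ 2)) * (v : ZMod (p ^ 2)) * hp2

/-- An automorphism of order `p` of a cyclic group of order `p ^ (j + 2)`, `p` odd. -/
theorem twist (hp2 : p ≠ 2) {j : ℕ} {x e : G} (hx : orderOf x = p ^ (j + 2)) (he : e ^ p = 1)
    (hn : e * x * e⁻¹ ∈ Subgroup.zpowers x) :
    ∃ c : ℕ, e * x = x ^ (1 + p ^ (j + 1) * c) * e := by
  obtain ⟨a, ha : x ^ a = e * x * e⁻¹⟩ := mem_powers_iff_mem_zpowers.mpr hn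
  have hpow : ∀ n, e ^ n * x * (e ^ n)⁻¹ = x ^ a ^ n := by
    intro n
    induction n with
    | zero => simp
    | succ n ih =>
      calc e ^ (n + 1) * x * (e ^ (n + 1))⁻¹ = e * (e ^ n * x * (e ^ n)⁻¹) * e⁻¹ := by
            rw [pow_succ']; group
        _ = (e * x * e⁻¹) ^ a ^ n := by rw [ih, conj_pow]
        _ = x ^ a ^ (n + 1) := by rw [← ha, ← pow_mul, pow_succ']
  have h1 : a ^ p ≡ 1 [MOD p ^ (j + 2)] := by
    rw [← hx, ← pow_eq_pow_iff_modEq, ← hpow, he]; simp
  have hap : a ≡ 1 [MOD p] := by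
    have h2 : a ^ p ≡ 1 [MOD p] := h1.of_dvd (dvd_pow_self p (by omega))
    rw [← ZMod.natCast_eq_natCast_iff, Nat.cast_pow, ZMod.pow_card] at h2
    exact (ZMod.natCast_eq_natCast_iff _ _ _).mp h2
  have ha0 : a ≠ 0 := fun h => by
    rw [h] at hap
    exact hp.out.ne_one (Nat.dvd_one.mp (hap.dvd_iff dvd_rfl |>.mp (dvd_zero p)))
  rcases Nat.eq_or_lt_of_le (show 1 ≤ a by omega) with h | h
  · refine ⟨0, ?_⟩
    rw [mul_zero, add_zero, h, ha]; group
  have hdvd : p ^ (j + 2) ∣ a ^ p - 1 := (Nat.modEq_iff_dvd' (Nat.one_le_pow _ _ (by omega))).mp h1.symm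
  have hval := padicValNat.pow_sub_pow (p := p) (hp.out.odd_of_ne_two hp2) h
    ((Nat.modEq_iff_dvd' h.le).mp hap.symm) (fun hd => by
      exact hp.out.ne_one (Nat.dvd_one.mp ((hap.dvd_iff dvd_rfl).mp hd))) hp.out.ne_zero
  rw [one_pow, padicValNat.self hp.out.one_lt] at hval
  have hne : a ^ p - 1 ≠ 0 := by
    have : 1 < a ^ p := Nat.one_lt_pow hp.out.ne_zero h
    omega
  have h3 : j + 2 ≤ padicValNat p (a ^ p - 1) := (padicValNat_dvd_iff_le hne).mp hdvd
  obtain ⟨c, hc⟩ : p ^ (j + 1) ∣ a - 1 := (padicValNat_dvd_iff_le (by omega)).mpr (by omega)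
  refine ⟨c, ?_⟩
  rw [← hc, show 1 + (a - 1) = a by omega, ha]
  group

/-- The translates `x ↦ x e` of the generators of the cyclic subgroups of order `p ^ (j + 2)`. -/
theorem twist_props (hp2 : p ≠ 2) {j : ℕ} {x e : G} (hx : orderOf x = p ^ (j + 2)) (he : e ^ p = 1)
    (hn : e * x * e⁻¹ ∈ Subgroup.zpowers x) :
    orderOf (x * e) = p ^ (j + 2) ∧ (x * e) ^ p ^ (j + 1) = x ^ p ^ (j + 1) ∧
      (∀ m, (x * e) ^ (1 + p * m) = x ^ (1 + p * m) * e) ∧
      ∀ e' : G, e'  ^ p = 1 → Commute e' e → e' * x * e'⁻¹ ∈ Subgroup.zpowers x →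
        e' * (x * e) * e'⁻¹ ∈ Subgroup.zpowers (x * e) := by
  obtain ⟨c, hc⟩ := twist hp2 hx he hn
  set P := p ^ (j + 1) with hP
  have hpp : p ^ (j + 2) = p * P := by rw [hP, ← pow_succ']
  set w := x ^ (P * c) with hw
  have hwx : Commute w x := (Commute.refl x).pow_left _
  have hex : e * x = x * w * e := by rw [hc, pow_add, pow_one]
  have hep : ∀ n, e * x ^ n = x ^ n * w ^ n * e := by
    intro n
    induction n with
    | zero => simp
    | succ n ih =>
      calc e * x ^ (n + 1) = e * x ^ n * x := by rw [pow_succ, mul_assoc]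
        _ = x ^ n * w ^ n * (e * x) := by rw [ih, mul_assoc]
        _ = x ^ n * w ^ n * (x * w * e) := by rw [hex]
        _ = x ^ n * (w ^ n * x) * w * e := by group
        _ = x ^ n * (x * w ^ n) * w * e := by rw [(hwx.pow_left n).eq]
        _ = x ^ (n + 1) * w ^ (n + 1) * e := by rw [pow_succ, pow_succ]; group
  have hwp : w ^ p = 1 := by
    rw [hw, ← pow_mul, ← orderOf_dvd_iff_pow_eq_one, hx, hpp]
    exact ⟨c, by ring⟩
  have hwe : Commute w e := by
    have h := hep (P * c)
    have h2 : w ^ (P * c) = 1 := by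
      rw [hP, pow_succ', mul_assoc, pow_mul, hwp, one_pow]
    rw [h2, mul_one] at h
    exact h.symm
  have hen : ∀ n, e ^ n * x = x * w ^ n * e ^ n := by
    intro n
    induction n with
    | zero => simp
    | succ n ih =>
      calc e ^ (n + 1) * x = e * (e ^ n * x) := by rw [pow_succ', mul_assoc]
        _ = e * x * w ^ n * e ^ n := by rw [ih]; group
        _ = x * w * (e * w ^ n) * e ^ n := by rw [hex]; group
        _ = x * w * (w ^ n * e) * e ^ n := by rw [(hwe.pow_left n).eq]
        _ = x * w ^ (n + 1) * e ^ (n + 1) := by rw [pow_succ', pow_succ']; group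
  have hprod : ∀ n, (x * e) ^ n = x ^ n * w ^ n.choose 2 * e ^ n := by
    intro n
    induction n with
    | zero => simp
    | succ n ih =>
      calc (x * e) ^ (n + 1) = x ^ n * w ^ n.choose 2 * (e ^ n * x) * e := by rw [pow_succ, ih]; group
        _ = x ^ n * (w ^ n.choose 2 * x) * w ^ n * (e ^ n * e) := by rw [hen]; group
        _ = x ^ n * (x * w ^ n.choose 2) * w ^ n * (e ^ n * e) := by rw [(hwx.pow_left _).eq]
        _ = x ^ (n + 1) * w ^ (n + 1).choose 2 * e ^ (n + 1) := by
          rw [Nat.choose_succ_succ', Nat.choose_one_right, add_comm n (n.choose 2), pow_add w, pow_succ,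
            pow_succ]
          group
  have hxe : (x * e) ^ p = x ^ p := by
    rw [hprod, he, mul_one]
    obtain ⟨d, hd⟩ : p ∣ p.choose 2 :=
      hp.out.dvd_choose_self two_ne_zero (lt_of_le_of_ne hp.out.two_le (Ne.symm hp2))
    rw [hd, pow_mul, hwp, one_pow, mul_one]
  have hpm : ∀ m, (x * e) ^ (p * m) = x ^ (p * m) := fun m => by rw [pow_mul, hxe, ← pow_mul]
  have hP' : (x * e) ^ P = x ^ P := by
    rw [hP, pow_succ']
    exact hpm _
  have hone : ∀ m, (x * e) ^ (1 + p * m) = x ^ (1 + p * m) * e := by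
    intro m
    have hce : e * x ^ (p * m) = x ^ (p * m) * e := by
      rw [hep, pow_mul w, hwp, one_pow, mul_one]
    rw [pow_add, pow_one, hpm, mul_assoc, hce, ← mul_assoc, pow_add, pow_one]
  refine ⟨?_, hP', hone, ?_⟩
  · refine orderOf_eq_prime_pow ?_ ?_
    · rw [hP', ← orderOf_dvd_iff_pow_eq_one, hx, hP, Nat.pow_dvd_pow_iff_le_right hp.out.one_lt]
      omega
    · show (x * e) ^ p ^ (j + 2) = 1
      rw [hpp, hpm, ← hpp, ← hx, pow_orderOf_eq_one]
  · intro e' he' hcomm hn'
    obtain ⟨c', hc'⟩ := twist hp2 hx he' hn'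
    refine ⟨((1 + P * c' : ℕ) : ℤ), ?_⟩
    show (x * e) ^ ((1 + P * c' : ℕ) : ℤ) = e' * (x * e) * e'⁻¹
    have h := hone (p ^ j * c')
    rw [← mul_assoc, ← pow_succ', ← hP] at h
    rw [zpow_natCast, h, ← hP] at *
    calc x ^ (1 + P * c') * e = x ^ (1 + P * c') * (e * e') * e'⁻¹ := by group
      _ = x ^ (1 + P * c') * (e' * e) * e'⁻¹ := by rw [hcomm.eq]
      _ = x ^ (1 + P * c') * e' * e * e'⁻¹ := by group
      _ = e' * x * e * e'⁻¹ := by rw [← hc']
      _ = e' * (x * e) * e'⁻¹ := by group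

/-- Cyclic subgroups of order `p ^ (j + 2)`, when there is an elementary abelian subgroup of order `p ^ 2`. -/
theorem card_cyclic_modEq_zero (hp2 : p ≠ 2) (j : ℕ) (z e : G) (hz : orderOf z = p) (he : orderOf e = p)
    (hcomm : Commute z e) (hez : e ∉ Subgroup.zpowers z) :
    Nat.card {C : Subgroup G // Nat.card C = p ^ (j + 2) ∧ IsCyclic C} ≡ 0 [MOD p] := by
  classical
  set E := Subgroup.closure ({z, e} : Set G) with hE
  have hzE : z ∈ E := Subgroup.subset_closure (by simp)
  have heE : e ∈ E := Subgroup.subset_closure (by simp)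
  have hEab : ∀ a ∈ E, ∀ b ∈ E, Commute a b := by
    intro a ha b hb
    haveI := Subgroup.isMulCommutative_closure (k := ({z, e} : Set G)) (by
      rintro x (rfl | rfl) y (rfl | rfl)
      exacts [rfl, hcomm.eq, hcomm.eq.symm, rfl])
    exact congrArg Subtype.val (mul_comm' (⟨a, ha⟩ : Subgroup.closure ({z, e} : Set G)) ⟨b, hb⟩)
  have hEexp : ∀ a ∈ E, a ^ p = 1 := by
    intro a ha
    induction ha using Subgroup.closure_induction with
    | mem x hx =>
      rcases hx with rfl | rfl
      exacts [hz ▸ pow_orderOf_eq_one _, he ▸ pow_orderOf_eq_one _]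
    | one => exact one_pow p
    | mul x y hx hy ihx ihy => rw [(hEab x hx y hy).mul_pow, ihx, ihy, one_mul]
    | inv x hx ih => rw [inv_pow, ih, inv_one]
  have hEp : IsPGroup p E := fun a => ⟨1, Subtype.ext (by simpa using hEexp a a.2)⟩
  let act : MulAction E {C : Subgroup G // Nat.card C = p ^ (j + 2) ∧ IsCyclic C} :=
    { smul := fun a C => ⟨C.1.map (MulAut.conj (a : G)).toMonoidHom, by
        rw [Subgroup.card_map_of_injective (MulAut.conj (a : G)).injective]
        exact C.2.1, by
        haveI := C.2.2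
        exact isCyclic_of_surjective _ (C.1.equivMapOfInjective _ (MulAut.conj (a : G)).injective).surjective⟩
      one_smul := fun C => Subtype.ext (by
        ext x; simp [HSMul.hSMul, Subgroup.mem_map])
      mul_smul := fun a c C => Subtype.ext (by
        show C.1.map _ = (C.1.map _).map _
        rw [Subgroup.map_map]
        congr 1
        ext x; simp [mul_assoc]) }
  refine (hEp.card_modEq_card_fixedPoints _).trans ?_
  set α := MulAction.fixedPoints E {C : Subgroup G // Nat.card C = p ^ (j + 2) ∧ IsCyclic C}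
  have hα : ∀ C : α, ∀ a ∈ E, ∀ x ∈ C.1.1, a * x * a⁻¹ ∈ C.1.1 := by
    intro C a ha x hx
    have h : C.1.1.map (MulAut.conj a).toMonoidHom = C.1.1 := congrArg Subtype.val (C.2 ⟨a, ha⟩)
    rw [← h]
    exact ⟨x, hx, rfl⟩
  set P := p ^ (j + 1) with hP
  -- translations depend on the subgroup of order `p`
  have hsel : ∀ W : Subgroup G, ∃ w d : G, Nat.card W = p → (Subgroup.zpowers w = W ∧ d ∈ E ∧ d ∉ W) := by
    intro W
    by_cases hW : Nat.card W = p
    · haveI := isCyclic_of_prime_card hW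
      obtain ⟨w, hw⟩ := (Subgroup.isCyclic_iff_exists_zpowers_eq_top W).mp inferInstance
      obtain ⟨d, hd, hdW⟩ : ∃ d ∈ E, d ∉ W := by
        by_contra hcon
        push Not at hcon
        have hzW : Subgroup.zpowers z = W := Subgroup.eq_of_le_of_card_ge (Subgroup.zpowers_le.mpr (hcon z hzE))
          (by rw [Nat.card_zpowers, hz, hW])
        exact hez (hzW ▸ hcon e heE)
      exact ⟨w, d, fun _ => ⟨hw, hd, hdW⟩⟩
    · exact ⟨1, 1, fun h => absurd h hW⟩
  choose wW dW hwd using hsel
  -- normalised generators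
  have hgen : ∀ C : α, ∃ g, Subgroup.zpowers g = C.1.1 ∧ orderOf g = p ^ (j + 2) ∧
      g ^ P = wW (Subgroup.zpowers (g ^ P)) ∧ Nat.card (Subgroup.zpowers (g ^ P)) = p := by
    intro C
    haveI := C.1.2.2
    obtain ⟨g, hg⟩ := (Subgroup.isCyclic_iff_exists_zpowers_eq_top C.1.1).mp inferInstance
    have hgo : orderOf g = p ^ (j + 2) := by rw [← Nat.card_zpowers, hg, C.1.2.1]
    have hgP : Nat.card (Subgroup.zpowers (g ^ P)) = p := by
      rw [Nat.card_zpowers, orderOf_pow_of_dvd (pow_pos hp.out.pos _).ne' (hgo ▸ pow_dvd_pow p (by omega)), hgo,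
        pow_succ p (j + 1), Nat.mul_div_cancel_left _ (pow_pos hp.out.pos _)]
    set W := Subgroup.zpowers (g ^ P) with hW
    obtain ⟨hw, -⟩ := hwd W hgP
    obtain ⟨i, hi : (g ^ P) ^ i = wW W⟩ :=
      mem_powers_iff_mem_zpowers.mpr (show wW W ∈ W by
        have h := Subgroup.mem_zpowers (wW W); rwa [hw] at h)
    have hwne : wW W ≠ 1 := fun h => by
      have := congrArg (fun S : Subgroup G => Nat.card S) hw
      simp [h, hgP, hp.out.ne_one.symm] at this
    have hicop : Nat.Coprime i (orderOf g) := by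
      rw [hgo]
      refine Nat.Coprime.pow_right _ ((hp.out.coprime_iff_not_dvd.mpr fun hd => hwne ?_).symm)
      obtain ⟨c, rfl⟩ := hd
      rw [← hi, ← pow_mul, ← orderOf_dvd_iff_pow_eq_one, hgo, hP, pow_succ p (j + 1)]
      exact ⟨c, by ring⟩
    have hio : orderOf (g ^ i) = p ^ (j + 2) := by rw [Nat.Coprime.orderOf_pow hicop.symm, hgo]
    have hWeq : Subgroup.zpowers ((g ^ i) ^ P) = W := by
      rw [← pow_mul, mul_comm, pow_mul, hi, hw]
    refine ⟨g ^ i, ?_, hio, ?_, hWeq ▸ hgP⟩
    · refine Subgroup.eq_of_le_of_card_ge (Subgroup.zpowers_le.mpr (hg ▸ pow_mem (Subgroup.mem_zpowers g) i)) ?_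
      rw [Nat.card_zpowers, hio, C.1.2.1]
    · rw [hWeq, ← pow_mul, mul_comm, pow_mul, hi]
  choose gC hgC using hgen
  let d : α → G := fun C => dW (Subgroup.zpowers (gC C ^ P))
  have hd : ∀ C, d C ∈ E ∧ d C ∉ Subgroup.zpowers (gC C ^ P) := fun C => (hwd _ (hgC C).2.2.2).2
  have hn : ∀ (C : α), ∀ a ∈ E, a * gC C * a⁻¹ ∈ Subgroup.zpowers (gC C) := by
    intro C a ha
    have h := hα C a ha (gC C) (by rw [← (hgC C).1]; exact Subgroup.mem_zpowers _)
    rwa [← (hgC C).1] at h
  have htw := fun (C : α) (a : G) (ha : a ∈ E) =>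
    twist_props hp2 (hgC C).2.1 (hEexp a ha) (hn C a ha)
  let T : α → α := fun C => ⟨⟨Subgroup.zpowers (gC C * d C),
      by rw [Nat.card_zpowers]; exact (htw C _ (hd C).1).1, inferInstance⟩, fun a => Subtype.ext (by
      show (Subgroup.zpowers (gC C * d C)).map _ = _
      refine Subgroup.eq_of_le_of_card_ge ?_ (le_of_eq ?_)
      · rw [MonoidHom.map_zpowers, Subgroup.zpowers_le]
        exact (htw C _ (hd C).1).2.2.2 a (hEexp a a.2) (hEab _ a.2 _ (hd C).1) (hn C a a.2)
      · rw [Subgroup.card_map_of_injective (MulAut.conj (a : G)).injective])⟩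
  -- the iterates
  have hiter : ∀ (C : α) (n : ℕ), (T^[n] C).1.1 = Subgroup.zpowers (gC C * d C ^ n) ∧
      d (T^[n] C) = d C := by
    intro C n
    induction n with
    | zero => exact ⟨by simpa using (hgC C).1.symm, rfl⟩
    | succ n ih =>
      set D := T^[n] C with hD
      have hdn := pow_mem (hd C).1 n
      obtain ⟨ho, hP1, hpm, -⟩ := htw C _ hdn
      obtain ⟨i, hi : (gC C * d C ^ n) ^ i = gC D⟩ := mem_powers_iff_mem_zpowers.mpr
        (ih.1 ▸ (show gC D ∈ D.1.1 from (hgC D).1 ▸ Subgroup.mem_zpowers _))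
      -- `i ≡ 1 [MOD p]`
      have hW : Subgroup.zpowers (gC D ^ P) = Subgroup.zpowers (gC C ^ P) := by
        refine Subgroup.eq_of_le_of_card_ge (Subgroup.zpowers_le.mpr ?_) ((hgC C).2.2.2.trans (hgC D).2.2.2.symm).le
        rw [← hi, ← pow_mul, mul_comm, pow_mul, hP1]
        exact pow_mem (Subgroup.mem_zpowers _) i
      have hi1 : i ≡ 1 [MOD p] := by
        have h1 : (gC C ^ P) ^ i = (gC C ^ P) ^ 1 := by
          rw [pow_one, ← hP1, ← pow_mul, mul_comm, pow_mul, hi, hP1]
          exact (hgC D).2.2.1.trans ((congrArg wW hW).trans (hgC C).2.2.1.symm)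
        rw [pow_eq_pow_iff_modEq, ← Nat.card_zpowers, (hgC C).2.2.2] at h1
        exact h1
      have hi0 : 1 ≤ i := Nat.one_le_iff_ne_zero.mpr fun h => by
        rw [h] at hi1
        exact hp.out.ne_one (Nat.dvd_one.mp ((Nat.modEq_zero_iff_dvd).mp hi1.symm))
      obtain ⟨m, hm⟩ := (Nat.modEq_iff_dvd' hi0).mp hi1.symm
      have him : i = 1 + p * m := by omega
      have hdD : d D = d C := ih.2
      have hdS := pow_mem (hd C).1 (n + 1)
      have e1 : gC D * d D = (gC C * d C ^ (n + 1)) ^ i := by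
        rw [hdD, ← hi, him, hpm m, (htw C _ hdS).2.2.1 m, pow_succ]
        group
      have hS := (htw C _ hdS).1
      have hTD : (T^[n + 1] C).1.1 = Subgroup.zpowers (gC C * d C ^ (n + 1)) := by
        rw [Function.iterate_succ_apply']
        show Subgroup.zpowers (gC D * d D) = _
        refine Subgroup.eq_of_le_of_card_ge (Subgroup.zpowers_le.mpr (e1 ▸ pow_mem (Subgroup.mem_zpowers _) i)) ?_
        rw [Nat.card_zpowers, Nat.card_zpowers, hS, (htw D _ (hd D).1).1]
      refine ⟨hTD, ?_⟩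
      show dW _ = dW _
      congr 1
      refine Subgroup.eq_of_le_of_card_ge (Subgroup.zpowers_le.mpr ?_) ((hgC C).2.2.2.trans (hgC _).2.2.2.symm).le
      obtain ⟨k, hk : (gC C * d C ^ (n + 1)) ^ k = gC (T^[n + 1] C)⟩ := mem_powers_iff_mem_zpowers.mpr
        (hTD ▸ (show gC (T^[n + 1] C) ∈ (T^[n + 1] C).1.1 from (hgC _).1 ▸ Subgroup.mem_zpowers _))
      rw [← hk, ← pow_mul, mul_comm, pow_mul, (htw C _ hdS).2.1]
      exact pow_mem (Subgroup.mem_zpowers _) k
  haveI := Fintype.ofFinite α
  have hTp : (show Function.End α from T) ^ p ^ 1 = 1 := by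
    funext C
    rw [pow_one]
    show (T^[p]) C = C
    refine Subtype.ext (Subtype.ext ?_)
    rw [(hiter C p).1, hEexp _ (hd C).1, mul_one, (hgC C).1]
  have h := Equiv.Perm.card_fixedPoints_modEq (f := (show Function.End α from T)) hTp
  rw [← Nat.card_eq_fintype_card, ← Nat.card_eq_fintype_card] at h
  haveI : IsEmpty (Function.fixedPoints T) := by
    refine ⟨fun ⟨C, hC⟩ => ?_⟩
    have h1 : Subgroup.zpowers (gC C * d C) = C.1.1 := congrArg (fun D : α => D.1.1) hC
    have h2 : d C ∈ Subgroup.zpowers (gC C) := by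
      have h3 : gC C * d C ∈ Subgroup.zpowers (gC C) := by
        rw [(hgC C).1, ← h1]; exact Subgroup.mem_zpowers _
      exact (mul_mem_cancel_left (Subgroup.mem_zpowers _)).mp h3
    obtain ⟨i, hi : gC C ^ i = d C⟩ := mem_powers_iff_mem_zpowers.mpr h2
    have h4 : P ∣ i := by
      have h5 : gC C ^ (i * p) = 1 := by rw [pow_mul, hi, hEexp _ (hd C).1]
      rw [← orderOf_dvd_iff_pow_eq_one, (hgC C).2.1, pow_succ] at h5
      exact Nat.dvd_of_mul_dvd_mul_right hp.out.pos h5
    obtain ⟨k, rfl⟩ := h4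
    exact (hd C).2 (by rw [← hi, pow_mul]; exact pow_mem (Subgroup.mem_zpowers _) k)
  rw [Nat.card_of_isEmpty (α := Function.fixedPoints T)] at h
  exact h

/-- **Kulakoff's theorem**: the number of subgroups of order `p ^ a`, modulo `p ^ 2`. -/
theorem card_subgroups_one_or (a : ℕ) (hdvd : p ^ (a + 1) ∣ Nat.card G) :
    Nat.card {H : Subgroup G // Nat.card H = p ^ a} ≡ 1 [MOD p ^ 2] ∨
      Nat.card {H : Subgroup G // Nat.card H = p ^ a} ≡ 1 + p [MOD p ^ 2] := by
  classical
  rcases eq_or_ne p 2 with rfl | hp2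
  · have h := card_subgroups_modEq_one 2 a Nat.prime_two (dvd_trans (pow_dvd_pow 2 a.le_succ) hdvd)
    unfold Nat.ModEq at h ⊢
    omega
  have h := card_subgroups_modEq_sq a hdvd
  set nc := Nat.card {H : Subgroup G // Nat.card H = p ^ (a + 1) ∧ ¬ IsCyclic H} with hnc
  by_cases h0 : nc = 0
  · left; rw [h0, mul_zero, add_zero] at h; exact h
  right
  obtain ⟨⟨H, hHc, hHn⟩⟩ : Nonempty {H : Subgroup G // Nat.card H = p ^ (a + 1) ∧ ¬ IsCyclic H} :=
    (Nat.card_ne_zero.mp h0).1
  obtain ⟨j, rfl⟩ : ∃ j, a = j + 1 := by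
    refine Nat.exists_eq_add_one_of_ne_zero fun h => hHn ?_
    subst h
    exact isCyclic_of_prime_card (p := p) (by simpa using hHc)
  obtain ⟨z, e, hz, he, hze, hez⟩ := Elem69.exists_two_order_p (P := H) hp2 (IsPGroup.of_card hHc) hHn
  have hc := card_cyclic_modEq_zero hp2 j (z : G) (e : G) (by rwa [Subgroup.orderOf_coe])
    (by rwa [Subgroup.orderOf_coe]) (congrArg Subtype.val hze.eq) (fun hm => hez (by
      obtain ⟨i, hi⟩ := hm
      exact ⟨i, Subtype.ext hi⟩))
  have hsplit : Nat.card {C : Subgroup G // Nat.card C = p ^ (j + 2) ∧ IsCyclic C} + nc =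
      Nat.card {C : Subgroup G // Nat.card C = p ^ (j + 2)} := by
    rw [hnc, ← Nat.card_sum]
    refine Nat.card_congr ((Equiv.sumCongr ?_ ?_).trans
      (Equiv.sumCompl fun C : {C : Subgroup G // Nat.card C = p ^ (j + 2)} => IsCyclic C.1))
    · exact (Equiv.subtypeSubtypeEquivSubtypeInter _ _).symm
    · exact (Equiv.subtypeSubtypeEquivSubtypeInter (fun C : Subgroup G => Nat.card C = p ^ (j + 2))
        (fun C => ¬ IsCyclic C)).symm
  have hn1 := card_subgroups_modEq_one p (j + 2) hp.out hdvd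
  rw [← hsplit] at hn1
  have hnc1 : nc ≡ 1 [MOD p] := by
    have := (Nat.ModEq.add_right nc hc).symm.trans hn1
    rwa [zero_add] at this
  refine h.trans (Nat.ModEq.add_left 1 ?_)
  have := hnc1.mul_left' p
  rwa [mul_one, ← pow_two] at this

end Cfsg.Agent.Lib.OrderCount
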